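import Cfsg.Agent.Lib.Forms.Sp
import Cfsg.Agent.Lib.MinDeg.AbelianProj
import Cfsg.Agent.S0271
import Cfsg.Agent.S0765

/-!
Symplectic transvections `tr v x`, the elements `rE a u` of the radical of a point stabiliser and the
identities between them.
-/

set_option autoImplicit false
set_option linter.unusedSectionVars false

namespace Cfsg.Agent.SpMinIndex

open Matrix

variable {F : Type*} [Field F] {m : ℕ}

local notation "PS" m => (Fin m ⊕ Fin m → F)
local notation "Sp" m => Matrix.symplecticGroup (Fin m) F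
local notation "B" => FormsLib.spB _ F

/-- The action of a matrix on a vector. -/
def ap (g : Sp m) (x : PS m) : PS m := (g : Matrix (Fin m ⊕ Fin m) (Fin m ⊕ Fin m) F) *ᵥ x

/-- The transvection `w ↦ w + x B(w, v) v`. -/
noncomputable def tr (v : PS m) (x : F) : Sp m := ⟨_, FormsLib.transvection_mem_symplectic v x⟩

/-- The radical element `w ↦ w + B(w, a) u + B(w, u) a`, for `u ⊥ a`. -/
noncomputable def rE (a u : PS m) : Sp m := tr (a + u) 1 * tr a (-1) * tr u (-1)

theorem ap_mul (g h : Sp m) (x : PS m) : ap (g * h) x = ap g (ap h x) := (Matrix.mulVec_mulVec _ _ _).symm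

theorem ap_one (x : PS m) : ap (1 : Sp m) x = x := Matrix.one_mulVec x

theorem ap_inv_ap (g : Sp m) (x : PS m) : ap g (ap g⁻¹ x) = x := by rw [← ap_mul, mul_inv_cancel, ap_one]

theorem inv_ap_ap (g : Sp m) (x : PS m) : ap g⁻¹ (ap g x) = x := by rw [← ap_mul, inv_mul_cancel, ap_one]

theorem ext_ap {g h : Sp m} (H : ∀ x, ap g x = ap h x) : g = h :=
  Subtype.ext (Matrix.toLin'.injective (LinearMap.ext fun x => by
    rw [Matrix.toLin'_apply, Matrix.toLin'_apply]; exact H x))

theorem ap_add (g : Sp m) (x y : PS m) : ap g (x + y) = ap g x + ap g y := Matrix.mulVec_add _ _ _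

theorem ap_smul (g : Sp m) (c : F) (x : PS m) : ap g (c • x) = c • ap g x := Matrix.mulVec_smul _ _ _

theorem ap_zero (g : Sp m) : ap g 0 = 0 := Matrix.mulVec_zero _

theorem ap_injective (g : Sp m) : Function.Injective (ap g) := fun x y h => by
  rw [← inv_ap_ap g x, h, inv_ap_ap]

theorem B_ap (g : Sp m) (x y : PS m) : B (ap g x) (ap g y) = B x y :=
  (FormsLib.mem_symplectic_iff _).1 g.2 x y

theorem B_self (u : PS m) : B u u = 0 := FormsLib.spB_alt u

theorem B_swap (u v : PS m) : B v u = -(B u v) := (FormsLib.spB_alt.neg u v).symm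

theorem exists_partner {u : PS m} (hu : u ≠ 0) : ∃ v, B u v = 1 := by
  obtain ⟨v, hv⟩ : ∃ v, B u v ≠ 0 := by
    by_contra! h
    exact hu (FormsLib.spB_nondeg.1 u h)
  exact ⟨(B u v)⁻¹ • v, by rw [map_smul, smul_eq_mul, inv_mul_cancel₀ hv]⟩

theorem exists_partner₂ {u w : PS m} (hu : u ≠ 0) (hw : w ≠ 0) : ∃ v, B u v ≠ 0 ∧ B w v ≠ 0 := by
  obtain ⟨v₁, h1⟩ := exists_partner hu
  obtain ⟨v₂, h2⟩ := exists_partner hw
  by_cases e1 : B w v₁ = 0
  · by_cases e2 : B u v₂ = 0
    · exact ⟨v₁ + v₂, by rw [map_add, h1, e2, add_zero]; exact one_ne_zero,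
        by rw [map_add, h2, e1, zero_add]; exact one_ne_zero⟩
    · exact ⟨v₂, e2, by rw [h2]; exact one_ne_zero⟩
  · exact ⟨v₁, by rw [h1]; exact one_ne_zero, e1⟩

theorem exists_map {u v : PS m} (hu : u ≠ 0) (hv : v ≠ 0) : ∃ g : Sp m, ap g u = v :=
  S0271.result m u v hu hv

theorem tr_ap (v : PS m) (x : F) (w : PS m) : ap (tr v x) w = w + (x * B w v) • v := by
  rw [ap, tr, FormsLib.sympTransvection_mulVec, FormsLib.tau_apply]

theorem tr_add (v : PS m) (x y : F) : tr v (x + y) = tr v x * tr v y := ext_ap fun w => by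
  simp only [ap_mul, tr_ap, map_add, map_smul, LinearMap.add_apply, LinearMap.smul_apply, B_self,
    smul_zero, add_zero, add_mul, add_smul]
  abel

theorem tr_zero (v : PS m) : tr v (0 : F) = 1 := ext_ap fun w => by
  rw [tr_ap, zero_mul, zero_smul, add_zero, ap_one]

theorem tr_inv (v : PS m) (x : F) : (tr v x)⁻¹ = tr v (-x) :=
  inv_eq_of_mul_eq_one_right (by rw [← tr_add, add_neg_cancel, tr_zero])

theorem tr_zero_vec (x : F) : tr (0 : PS m) x = 1 := ext_ap fun w => by
  rw [tr_ap, smul_zero, add_zero, ap_one]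

theorem tr_smul (v : PS m) (s x : F) : tr (s • v) x = tr v (s * s * x) := ext_ap fun w => by
  rw [tr_ap, tr_ap, map_smul, smul_smul, smul_eq_mul]
  congr 2
  ring

theorem tr_conj (g : Sp m) (v : PS m) (x : F) : g * tr v x * g⁻¹ = tr (ap g v) x := ext_ap fun w => by
  rw [ap_mul, ap_mul, tr_ap, ap_add, ap_inv_ap, ap_smul, tr_ap]
  congr 3
  conv_rhs => rw [← ap_inv_ap g w, B_ap]

theorem tr_commute {u v : PS m} (h : B u v = 0) (x y : F) : Commute (tr u x) (tr v y) := ext_ap fun w => by
  simp only [ap_mul, tr_ap, map_add, map_smul, LinearMap.add_apply, LinearMap.smul_apply, B_swap u v, h,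
    neg_zero, smul_zero, add_zero]
  abel

theorem rE_ap {a u : PS m} (h : B a u = 0) (w : PS m) :
    ap (rE a u) w = w + B w a • u + B w u • a := by
  funext i
  simp only [rE, ap_mul, tr_ap, map_add, map_smul, LinearMap.add_apply, LinearMap.smul_apply, B_self,
    B_swap a u, h, neg_zero, smul_zero, add_zero, smul_eq_mul, Pi.add_apply, Pi.smul_apply]
  ring

theorem rE_zero (a : PS m) : rE a 0 = 1 := ext_ap fun w => by
  rw [rE_ap (by simp), ap_one]; simp

theorem rE_mul {a u u' : PS m} (hu : B a u = 0) (hu' : B a u' = 0) :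
    rE a u * rE a u' = rE a (u + u') * tr a (B u' u) := by
  have h3 : B a (u + u') = 0 := by rw [map_add, hu, hu', add_zero]
  refine ext_ap fun w => ?_
  rw [ap_mul, rE_ap hu', rE_ap hu, ap_mul, tr_ap, rE_ap h3]
  funext i
  simp only [map_add, map_smul, LinearMap.add_apply, LinearMap.smul_apply, B_self, B_swap a u', hu, hu',
    neg_zero, smul_zero, add_zero, smul_eq_mul, Pi.add_apply, Pi.smul_apply]
  ring

theorem rE_tr_commute {a u : PS m} (h : B a u = 0) (x : F) : Commute (tr a x) (rE a u) := by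
  have h2 : B a (a + u) = 0 := by rw [map_add, B_self, h, add_zero]
  exact (((tr_commute h2 _ _).mul_right (tr_commute (B_self a) _ _))).mul_right (tr_commute h _ _)

theorem rE_smul_self (a : PS m) (c : F) : rE a (c • a) = tr a (2 * c) := ext_ap fun w => by
  rw [rE_ap (by rw [map_smul, B_self, smul_zero]), tr_ap, map_smul, smul_smul, smul_eq_mul, add_assoc,
    ← add_smul]
  congr 2
  ring

theorem rE_conj {a u : PS m} (g : Sp m) : g * rE a u * g⁻¹ = rE (ap g a) (ap g u) := by
  rw [rE, rE, ← ap_add, ← tr_conj, ← tr_conj, ← tr_conj]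
  group

/-- The symmetric decomposition on a totally isotropic line. -/
theorem tr_line {a c : PS m} (h : B a c = 0) (p r x : F) :
    tr (p • a + r • c) x = tr a (p * p * x) * tr c (r * r * x) * rE a ((p * r * x) • c) := by
  refine ext_ap fun w => ?_
  rw [tr_ap, ap_mul, ap_mul, rE_ap (by rw [map_smul, h, smul_zero]), tr_ap, tr_ap]
  funext i
  simp only [map_add, map_smul, LinearMap.add_apply, LinearMap.smul_apply, B_self, B_swap a c, h,
    neg_zero, smul_zero, add_zero, smul_eq_mul, Pi.add_apply, Pi.smul_apply]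
  ring

theorem rE_smul_swap {a c : PS m} (h : B a c = 0) (x : F) : rE a (x • c) = rE c (x • a) := ext_ap fun w => by
  rw [rE_ap (by rw [map_smul, h, smul_zero]), rE_ap (by rw [map_smul, B_swap a c, h, neg_zero, smul_zero])]
  funext i
  simp only [map_smul, smul_eq_mul, Pi.add_apply, Pi.smul_apply]
  ring

theorem rE_smul_left {a u : PS m} (h : B a u = 0) (s : F) : rE (s • a) u = rE a (s • u) := ext_ap fun w => by
  rw [rE_ap (by rw [map_smul, LinearMap.smul_apply, h, smul_zero]), rE_ap (by rw [map_smul, h, smul_zero])]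
  funext i
  simp only [map_smul, smul_eq_mul, Pi.add_apply, Pi.smul_apply]
  ring

/-- A linear isometry as an element of the symplectic group. -/
noncomputable def ofMap (f : (PS m) →ₗ[F] (PS m)) (hf : ∀ u v, B (f u) (f v) = B u v) : Sp m :=
  ⟨LinearMap.toMatrix' f, (FormsLib.mem_symplectic_iff _).2 fun u v => by
    simpa [LinearMap.toMatrix'_mulVec] using hf u v⟩

theorem ofMap_ap (f : (PS m) →ₗ[F] (PS m)) (hf : ∀ u v, B (f u) (f v) = B u v) (x : PS m) :
    ap (ofMap f hf) x = f x := by
  rw [ap, ofMap, LinearMap.toMatrix'_mulVec]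

variable {k : ℕ}

/-- The embedding of `a^⊥/a`. -/
def iota (w : PS k) : PS (k + 1) :=
  Sum.elim (Fin.cons 0 (w ∘ Sum.inl)) (Fin.cons 0 (w ∘ Sum.inr))

/-- The base point. -/
def a0 : PS (k + 1) := Pi.single (Sum.inr 0) 1

/-- A partner of the base point. -/
def f0 : PS (k + 1) := Pi.single (Sum.inl 0) 1

theorem a0_ne : (a0 : PS (k + 1)) ≠ 0 := by simp [a0]

theorem iota_add (u v : PS k) : iota (u + v) = iota u + iota v := by
  funext i
  rcases i with i | i <;> refine Fin.cases ?_ (fun j => ?_) i <;> simp [iota]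

theorem iota_smul (c : F) (u : PS k) : iota (c • u) = c • iota u := by
  funext i
  rcases i with i | i <;> refine Fin.cases ?_ (fun j => ?_) i <;> simp [iota]

theorem iota_zero : iota (0 : PS k) = 0 := by
  funext i
  rcases i with i | i <;> refine Fin.cases ?_ (fun j => ?_) i <;> simp [iota]

theorem iota_injective : Function.Injective (iota : (PS k) → PS (k + 1)) := fun u v h => by
  funext i
  rcases i with i | i
  · simpa [iota] using congrFun h (Sum.inl i.succ)
  · simpa [iota] using congrFun h (Sum.inr i.succ)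

theorem B_iota (u v : PS k) : B (iota u) (iota v) = B u v := by
  rw [FormsLib.spB_expand, FormsLib.spB_expand, Fin.sum_univ_succ]
  simp [iota]

theorem B_a0 (x : PS (k + 1)) : B a0 x = x (Sum.inl 0) := by
  rw [FormsLib.spB_expand, Fin.sum_univ_succ]
  simp [a0, Pi.single_apply]

theorem B_f0 (x : PS (k + 1)) : B f0 x = -x (Sum.inr 0) := by
  rw [FormsLib.spB_expand, Fin.sum_univ_succ]
  simp [f0, Pi.single_apply]

theorem B_a0_iota (u : PS k) : B a0 (iota u) = 0 := by rw [B_a0]; simp [iota]

theorem B_f0_iota (u : PS k) : B f0 (iota u) = 0 := by rw [B_f0]; simp [iota]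

theorem B_a0_f0 : B (a0 : PS (k + 1)) f0 = 1 := by rw [B_a0]; simp [f0]

theorem exists_decomp {x : PS (k + 1)} (h : B a0 x = 0) : ∃ (w : PS k) (z : F), x = iota w + z • a0 := by
  refine ⟨Sum.elim (fun i => x (Sum.inl i.succ)) (fun i => x (Sum.inr i.succ)), x (Sum.inr 0), ?_⟩
  rw [B_a0] at h
  funext i
  rcases i with i | i <;> refine Fin.cases ?_ (fun j => ?_) i <;> simp [iota, a0, h]

theorem iota_ne_zero {w : PS k} (h : w ≠ 0) : iota w ≠ 0 := fun e => h (iota_injective (e.trans iota_zero.symm))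

theorem tr_iota_a0 (v : PS k) (x : F) : ap (tr (iota v) x) a0 = a0 := by
  rw [tr_ap, B_a0_iota, mul_zero, zero_smul, add_zero]

theorem tr_iota (v w : PS k) (x : F) : ap (tr (iota v) x) (iota w) = iota (ap (tr v x) w) := by
  rw [tr_ap, tr_ap, B_iota, iota_add, iota_smul]

theorem eq_smul_of_forall {v e : PS m} (hv : v ≠ 0) (h : ∀ w, B v w = 0 → B e w = 0) :
    ∃ c : F, e = c • v := by
  obtain ⟨v', hv'⟩ := exists_partner hv
  refine ⟨B e v', sub_eq_zero.mp (FormsLib.spB_nondeg.1 _ fun w => ?_)⟩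
  have h1 := h (w - B v w • v') (by rw [map_sub, map_smul, hv', smul_eq_mul, mul_one, sub_self])
  rw [map_sub, map_smul, sub_eq_zero, smul_eq_mul] at h1
  simp only [map_sub, map_smul, LinearMap.sub_apply, LinearMap.smul_apply, smul_eq_mul, h1]
  ring

section Chars

variable [Fintype F]

theorem exists_psi_ne_one {a : F} (ha : a ≠ 0) : ∃ x, AbelianProj.psi F (a * x) ≠ 1 := by
  by_contra! h
  refine AbelianProj.psi_primitive F ha ?_
  ext x
  rw [AddChar.mulShift_apply, AddChar.one_apply]
  exact h x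

theorem eq_of_forall_psi {a b : F} (h : ∀ x, AbelianProj.psi F (a * x) = AbelianProj.psi F (b * x)) : a = b := by
  by_contra hne
  obtain ⟨x, hx⟩ := exists_psi_ne_one (sub_ne_zero.mpr hne)
  refine hx ?_
  rw [sub_mul, AddChar.map_sub_eq_div, h, div_self]
  exact ((AbelianProj.psi F).val_isUnit _).ne_zero

/-- The additive character of `F` attached to an element. -/
noncomputable def wtF (a : F) : AddChar F ℂ := (AbelianProj.psi F).mulShift a

theorem wtF_apply (a x : F) : wtF a x = AbelianProj.psi F (a * x) := AddChar.mulShift_apply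

theorem wtF_zero : wtF (0 : F) = 0 := by
  ext x
  rw [wtF_apply, zero_mul, AddChar.map_zero_eq_one, AddChar.zero_apply]

theorem wtF_bijective : Function.Bijective (wtF : F → AddChar F ℂ) :=
  (Fintype.bijective_iff_injective_and_card _).mpr ⟨fun a b h => eq_of_forall_psi fun x => by
    rw [← wtF_apply, ← wtF_apply, h], (AddChar.card_eq).symm⟩

/-- The additive character of `F^{2m}` attached to a vector. -/
noncomputable def wtV (c : PS m) : AddChar (PS m) ℂ :=
  (AbelianProj.psi F).compAddMonoidHom (B c).toAddMonoidHom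

theorem wtV_apply (c u : PS m) : wtV c u = AbelianProj.psi F (B c u) := rfl

theorem wtV_zero : wtV (0 : PS m) = 0 := by
  ext x
  rw [wtV_apply, map_zero, LinearMap.zero_apply, AddChar.map_zero_eq_one, AddChar.zero_apply]

theorem wtV_bijective : Function.Bijective (wtV : (PS m) → AddChar (PS m) ℂ) := by
  classical
  refine (Fintype.bijective_iff_injective_and_card _).mpr ⟨fun c c' h => ?_, (AddChar.card_eq).symm⟩
  refine sub_eq_zero.mp (FormsLib.spB_nondeg.1 _ fun d => ?_)
  rw [map_sub, LinearMap.sub_apply, sub_eq_zero]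
  refine eq_of_forall_psi fun x => ?_
  have h1 := DFunLike.congr_fun h (x • d)
  rwa [wtV_apply, wtV_apply, LinearMap.map_smul, LinearMap.map_smul, smul_eq_mul, smul_eq_mul, mul_comm x,
    mul_comm x] at h1

end Chars

end Cfsg.Agent.SpMinIndex
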