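import Mathlib

/-!
Orbit counting for an action of a finite abelian group by permutations: the number of points is the sum,
over the characters, of the number of orbits on which the character is trivial on the stabiliser.
-/

set_option autoImplicit false
set_option linter.unusedSectionVars false

namespace Cfsg.Agent.SpMinIndex

variable {A : Type*} [AddCommGroup A] [Fintype A] {Z : Type*} [Fintype Z] [DecidableEq Z]
variable (act : A → Equiv.Perm Z)

/-- The orbit of a point as a finset. -/
def orb (z : Z) : Finset Z := Finset.univ.image fun a => act a z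

/-- The set of all orbits. -/
def orbs : Finset (Finset Z) := Finset.univ.image (orb act)

/-- The character is trivial on the stabiliser of the point. -/
def Kills (χ : AddChar A ℂ) (z : Z) : Prop := ∀ a, act a z = z → χ a = 1

open Classical in
/-- The number of orbits on whose stabiliser the character is trivial. -/
noncomputable def num (χ : AddChar A ℂ) : ℕ := ((Finset.univ.filter (Kills act χ)).image (orb act)).card

variable {act}

theorem mem_orb {z w : Z} : w ∈ orb act z ↔ ∃ a, act a z = w := by simp [orb]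

variable (hadd : ∀ a b, act (a + b) = act a * act b)
include hadd

theorem act_zero : act 0 = 1 := by
  have h := hadd 0 0
  rw [add_zero] at h
  exact left_eq_mul.mp h

theorem act_comm (a b : A) (z : Z) : act a (act b z) = act b (act a z) := by
  have h1 := hadd a b
  rw [add_comm, hadd] at h1
  exact (Equiv.congr_fun h1 z).symm

theorem mem_orb_self (z : Z) : z ∈ orb act z := mem_orb.mpr ⟨0, by rw [act_zero hadd]; rfl⟩

theorem orb_eq_of_mem {z w : Z} (h : w ∈ orb act z) : orb act w = orb act z := by
  obtain ⟨a, rfl⟩ := mem_orb.mp h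
  ext x
  simp only [mem_orb]
  constructor
  · rintro ⟨b, rfl⟩
    exact ⟨b + a, by rw [hadd]; rfl⟩
  · rintro ⟨b, rfl⟩
    exact ⟨b - a, by
      rw [show b = b - a + a by abel, hadd, show b - a + a - a = b - a by abel]; rfl⟩

theorem kills_of_mem {χ : AddChar A ℂ} {z w : Z} (hw : w ∈ orb act z) (h : Kills act χ z) :
    Kills act χ w := by
  obtain ⟨a, rfl⟩ := mem_orb.mp hw
  intro b hb
  rw [act_comm hadd] at hb
  exact h b ((act a).injective hb)

/-- The stabiliser of a point. -/
def stab (z : Z) : AddSubgroup A where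
  carrier := {a | act a z = z}
  zero_mem' := by show act 0 z = z; rw [act_zero hadd]; rfl
  add_mem' := fun {a b} ha hb => by
    show act (a + b) z = z
    rw [hadd, Equiv.Perm.mul_apply, hb, ha]
  neg_mem' := fun {a} ha => by
    show act (-a) z = z
    conv_lhs => rw [← (show act a z = z from ha)]
    rw [← Equiv.Perm.mul_apply, ← hadd, neg_add_cancel, act_zero hadd]; rfl

open Classical in
theorem card_kills (z : Z) :
    (Finset.univ.filter fun χ : AddChar A ℂ => Kills act χ z).card = (orb act z).card := by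
  letI : Fintype (A ⧸ stab hadd z) := Fintype.ofFinite _
  have hrel : ∀ a b : A, act a z = act b z ↔ (a : A ⧸ stab hadd z) = b := fun a b => by
    rw [QuotientAddGroup.eq]
    show _ ↔ act (-a + b) z = z
    have e : act a (act (-a + b) z) = act b z := by
      rw [← Equiv.Perm.mul_apply, ← hadd, add_neg_cancel_left]
    exact ⟨fun h => (act a).injective (by rw [e, h]), fun h => by rw [← e, h]⟩
  have h1 : (orb act z).card = Fintype.card (A ⧸ stab hadd z) := by
    rw [← Fintype.card_coe]
    refine (Fintype.card_congr (Equiv.ofBijective (fun x : A ⧸ stab hadd z =>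
      (⟨Quotient.liftOn' x (fun a => act a z)
        (fun a b h => (hrel a b).mpr (Quotient.sound' h)), by
          induction x using Quotient.inductionOn' with
          | h a => exact mem_orb.mpr ⟨a, rfl⟩⟩ : {w // w ∈ orb act z})) ⟨?_, ?_⟩)).symm
    · intro x y h
      induction x using Quotient.inductionOn' with
      | h a =>
        induction y using Quotient.inductionOn' with
        | h b => exact (hrel a b).mp (congrArg Subtype.val h)
    · rintro ⟨w, hw⟩
      obtain ⟨a, ha⟩ := mem_orb.mp hw
      exact ⟨(a : A ⧸ stab hadd z), Subtype.ext ha⟩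
  rw [h1, ← AddChar.card_eq (α := A ⧸ stab hadd z), ← Finset.card_univ]
  refine Finset.card_bij' (fun χ hχ => AddChar.toAddMonoidHomEquiv.symm
      (QuotientAddGroup.lift (stab hadd z) χ.toAddMonoidHom fun a ha => by
        show Additive.ofMul (χ a) = 0
        rw [(Finset.mem_filter.mp hχ).2 a ha]; rfl))
    (fun χ _ => χ.compAddMonoidHom (QuotientAddGroup.mk' (stab hadd z)))
    (fun χ _ => Finset.mem_univ _) (fun χ _ => Finset.mem_filter.mpr ⟨Finset.mem_univ _, fun a ha => ?_⟩)
    (fun χ _ => ?_) (fun χ _ => ?_)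
  · show χ (a : A ⧸ stab hadd z) = 1
    rw [(QuotientAddGroup.eq_zero_iff a).mpr ha, AddChar.map_zero_eq_one]
  · ext a; rfl
  · ext x
    induction x using QuotientAddGroup.induction_on with
    | H a => rfl

open Classical in
/-- The counting formula. -/
theorem card_eq_sum : Fintype.card Z = ∑ χ : AddChar A ℂ, num act χ := by
  have hfib : Fintype.card Z = ∑ o ∈ orbs act, o.card := by
    rw [← Finset.card_univ, orbs]
    refine (Finset.card_eq_sum_card_image (orb act) Finset.univ).trans (Finset.sum_congr rfl fun o ho => ?_)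
    obtain ⟨z, -, rfl⟩ := Finset.mem_image.mp ho
    congr 1
    ext w
    simp only [Finset.mem_filter, Finset.mem_univ, true_and]
    exact ⟨fun h => h ▸ mem_orb_self hadd w, orb_eq_of_mem hadd⟩
  have hnum : ∀ χ : AddChar A ℂ, num act χ =
      ∑ o ∈ orbs act, if ∃ z ∈ o, Kills act χ z then 1 else 0 := by
    intro χ
    rw [Finset.sum_boole, Nat.cast_id, num]
    congr 1
    ext o
    simp only [Finset.mem_image, Finset.mem_filter, Finset.mem_univ, true_and, orbs]
    constructor
    · rintro ⟨z, hz, rfl⟩; exact ⟨⟨z, rfl⟩, z, mem_orb_self hadd z, hz⟩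
    · rintro ⟨⟨z, rfl⟩, w, hw, hwk⟩; exact ⟨w, hwk, orb_eq_of_mem hadd hw⟩
  simp only [hfib, hnum]
  rw [Finset.sum_comm]
  refine Finset.sum_congr rfl fun o ho => ?_
  obtain ⟨z, -, rfl⟩ := Finset.mem_image.mp ho
  rw [Finset.sum_boole, Nat.cast_id, ← card_kills hadd z]
  congr 1
  ext χ
  simp only [Finset.mem_filter, Finset.mem_univ, true_and]
  exact ⟨fun h => ⟨z, mem_orb_self hadd z, h⟩, fun ⟨w, hw, h⟩ =>
    kills_of_mem hadd (orb_eq_of_mem hadd hw ▸ mem_orb_self hadd z) h⟩

omit hadd in
theorem kills_one (z : Z) : Kills act (0 : AddChar A ℂ) z := fun a _ => AddChar.zero_apply a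

theorem num_one : num act (0 : AddChar A ℂ) = (orbs act).card := by
  classical
  rw [num, orbs]
  congr 1
  rw [Finset.filter_true_of_mem fun z _ => kills_one z]

theorem one_le_num {χ : AddChar A ℂ} {z : Z} (h : Kills act χ z) : 1 ≤ num act χ := by
  classical
  exact Finset.card_pos.mpr ⟨orb act z, Finset.mem_image.mpr ⟨z, Finset.mem_filter.mpr ⟨Finset.mem_univ _, h⟩, rfl⟩⟩

theorem orb_eq_of_num_le_one {χ : AddChar A ℂ} (h : num act χ ≤ 1) {z w : Z} (hz : Kills act χ z)
    (hw : Kills act χ w) : orb act z = orb act w := by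
  classical
  exact Finset.card_le_one.mp h _
    (Finset.mem_image.mpr ⟨z, Finset.mem_filter.mpr ⟨Finset.mem_univ _, hz⟩, rfl⟩) _
    (Finset.mem_image.mpr ⟨w, Finset.mem_filter.mpr ⟨Finset.mem_univ _, hw⟩, rfl⟩)

/-- A point not fixed by everything is killed by a non-trivial character. -/
theorem exists_kills {z : Z} (h : ∃ a, act a z ≠ z) : ∃ χ : AddChar A ℂ, χ ≠ 0 ∧ Kills act χ z := by
  classical
  obtain ⟨a, ha⟩ := h
  have h2 : 1 < (Finset.univ.filter fun χ : AddChar A ℂ => Kills act χ z).card := by
    rw [card_kills hadd z]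
    exact Finset.one_lt_card.mpr ⟨_, mem_orb.mpr ⟨a, rfl⟩, _, mem_orb_self hadd z, ha⟩
  obtain ⟨χ, hχ, hne⟩ := Finset.exists_mem_ne h2 0
  exact ⟨χ, hne, (Finset.mem_filter.mp hχ).2⟩

/-- An element killed by all the characters of a point lies in its stabiliser. -/
theorem act_eq_of_forall {z : Z} {a : A} (h : ∀ χ : AddChar A ℂ, Kills act χ z → χ a = 1) : act a z = z := by
  have h1 : (a : A ⧸ stab hadd z) = 0 := by
    by_contra hne
    obtain ⟨χ, hχ⟩ := AddChar.exists_apply_ne_zero.mpr hne
    refine hχ ?_
    have := h (χ.compAddMonoidHom (QuotientAddGroup.mk' (stab hadd z))) fun b hb => by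
      show χ (b : A ⧸ stab hadd z) = 1
      rw [(QuotientAddGroup.eq_zero_iff b).mpr hb, AddChar.map_zero_eq_one]
    exact this
  exact (QuotientAddGroup.eq_zero_iff a).mp h1

/-- A point killed by every character is moved by every non-zero element. -/
theorem free_of_kills_all {z : Z} (h : ∀ χ : AddChar A ℂ, Kills act χ z) {a : A} (ha : act a z = z) :
    a = 0 := by
  by_contra hne
  obtain ⟨χ, hχ⟩ := AddChar.exists_apply_ne_zero.mpr hne
  exact hχ (h χ a ha)

theorem kills_map {χ χ' : AddChar A ℂ} {π : Equiv.Perm Z} {T : A → A} (hT : Function.Surjective T)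
    (hπ : ∀ a, π * act a = act (T a) * π) (hχ : ∀ a, χ' (T a) = χ a) {z : Z} (hz : Kills act χ z) :
    Kills act χ' (π z) := by
  intro b hb
  obtain ⟨a, rfl⟩ := hT b
  rw [hχ]
  refine hz a (π.injective ?_)
  have h1 : π (act a z) = act (T a) (π z) := Equiv.congr_fun (hπ a) z
  rw [h1, hb]

theorem orb_map {π : Equiv.Perm Z} {T : A → A} (hT : Function.Surjective T)
    (hπ : ∀ a, π * act a = act (T a) * π) (z : Z) : orb act (π z) = (orb act z).image π := by
  ext w
  simp only [mem_orb, Finset.mem_image]
  constructor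
  · rintro ⟨b, rfl⟩
    obtain ⟨a, rfl⟩ := hT b
    exact ⟨act a z, ⟨a, rfl⟩, Equiv.congr_fun (hπ a) z⟩
  · rintro ⟨_, ⟨a, rfl⟩, rfl⟩
    exact ⟨T a, (Equiv.congr_fun (hπ a) z).symm⟩

theorem num_le_of_sym {χ χ' : AddChar A ℂ} {π : Equiv.Perm Z} {T : A → A} (hT : Function.Surjective T)
    (hπ : ∀ a, π * act a = act (T a) * π) (hχ : ∀ a, χ' (T a) = χ a) : num act χ ≤ num act χ' := by
  classical
  refine Finset.card_le_card_of_injOn (fun o => o.image π) (fun o ho => ?_)
    (fun o _ o' _ h => Finset.image_injective π.injective h)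
  obtain ⟨z, hz, rfl⟩ := Finset.mem_image.mp ho
  exact Finset.mem_image.mpr ⟨π z, Finset.mem_filter.mpr
    ⟨Finset.mem_univ _, kills_map hadd hT hπ hχ (Finset.mem_filter.mp hz).2⟩, orb_map hadd hT hπ z⟩

end Cfsg.Agent.SpMinIndex
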