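import Cfsg.Agent.Lib.SpMinIndex.Basic
import Cfsg.Agent.Lib.SpMinIndex.Count

/-!
Actions of the additive group `F^{2k}` with symplectic symmetry.
-/

set_option autoImplicit false
set_option linter.unusedSectionVars false
set_option maxHeartbeats 400000

namespace Cfsg.Agent.SpMinIndex

open Matrix

variable {F : Type*} [Field F] [Fintype F] {k : ℕ}

local notation "PS" m => (Fin m ⊕ Fin m → F)
local notation "Sp" m => Matrix.symplecticGroup (Fin m) F
local notation "B" => FormsLib.spB _ F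

/-- Two non-zero vectors are connected by at most two transvections. -/
theorem tr_connected {P : (PS k) → Prop} (hP : ∀ v x c, P c → P (ap (tr v x) c)) {c c' : PS k} (hc : c ≠ 0)
    (hc' : c' ≠ 0) (h : P c) : P c' := by
  have hstep : ∀ a b : PS k, P a → B a b ≠ 0 → P b := by
    intro a b ha hab
    have e : ap (tr (b - a) (B a b)⁻¹) a = b := by
      rw [tr_ap, map_sub, B_self, sub_zero, inv_mul_cancel₀ hab, one_smul, add_sub_cancel]
    exact e ▸ hP _ _ _ ha
  obtain ⟨e, he1, he2⟩ := exists_partner₂ hc hc'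
  exact hstep e c' (hstep c e h he1) (by rw [B_swap c' e]; exact neg_ne_zero.mpr he2)

theorem wtV_add (c c' : PS k) : wtV (c + c') = wtV c + wtV c' := by
  ext a
  rw [AddChar.add_apply, wtV_apply, wtV_apply, wtV_apply, map_add, LinearMap.add_apply, AddChar.map_add_eq_mul]

variable {Z : Type*} [Fintype Z] [DecidableEq Z] {act : (Fin k ⊕ Fin k → F) → Equiv.Perm Z}
variable (hadd : ∀ a b, act (a + b) = act a * act b)
variable (hsym : ∀ (v : Fin k ⊕ Fin k → F) (x : F), ∃ π : Equiv.Perm Z,
  ∀ a, π * act a = act (ap (tr v x) a) * π)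

/-- The number of orbits killed by a non-zero vector. -/
noncomputable def mu (act : (PS k) → Equiv.Perm Z) (c : PS k) : ℕ := num act (wtV c)

include hadd hsym

theorem mu_eq {c c' : PS k} (hc : c ≠ 0) (hc' : c' ≠ 0) : mu act c = mu act c' := by
  have hle : ∀ {c c' : PS k}, c ≠ 0 → c' ≠ 0 → mu act c ≤ mu act c' := by
    intro c c' hc hc'
    refine tr_connected (P := fun d => mu act c ≤ mu act d) (fun v x d hd => hd.trans ?_) hc hc' le_rfl
    obtain ⟨π, hπ⟩ := hsym v x
    exact num_le_of_sym hadd (fun b => ⟨_, ap_inv_ap (tr v x) b⟩) hπ fun a => by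
      rw [wtV_apply, wtV_apply, B_ap]
  exact le_antisymm (hle hc hc') (hle hc' hc)

theorem one_le_mu {z : Z} (hz : ∃ a, act a z ≠ z) {c : PS k} (hc : c ≠ 0) : 1 ≤ mu act c := by
  obtain ⟨χ, hχ, hk⟩ := exists_kills hadd hz
  obtain ⟨c₁, rfl⟩ := wtV_bijective.2 χ
  rw [← mu_eq hadd hsym (c := c₁) (fun h => hχ (by rw [h, wtV_zero])) hc]
  exact one_le_num hadd hk

theorem card_add_mu {c₀ : PS k} (hc₀ : c₀ ≠ 0) :
    Fintype.card Z + mu act c₀ = (orbs act).card + Fintype.card F ^ (2 * k) * mu act c₀ := by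
  classical
  rw [card_eq_sum hadd, ← Fintype.sum_bijective wtV wtV_bijective (fun c => mu act c) _ (fun c => rfl),
    ← Finset.add_sum_erase _ _ (Finset.mem_univ (0 : PS k)),
    Finset.sum_congr rfl (fun c hc => mu_eq hadd hsym (Finset.ne_of_mem_erase hc) hc₀),
    Finset.sum_const, Finset.card_erase_of_mem (Finset.mem_univ _), Finset.card_univ, Fintype.card_fun,
    Fintype.card_sum, Fintype.card_fin, ← two_mul, smul_eq_mul, add_assoc, ← Nat.succ_mul]
  congr 1
  · show num act (wtV 0) = _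
    rw [wtV_zero, num_one hadd]
  · congr 1
    have := Nat.one_le_pow (2 * k) (Fintype.card F) Fintype.card_pos
    omega

theorem card_ge_of_moved (hk : 1 ≤ k) {z : Z} (hz : ∃ a, act a z ≠ z) :
    Fintype.card F ^ (2 * k) ≤ Fintype.card Z := by
  classical
  obtain ⟨j, rfl⟩ : ∃ j, k = j + 1 := ⟨k - 1, by omega⟩
  have hμ := one_le_mu hadd hsym hz a0_ne
  have h := card_add_mu hadd hsym (c₀ := (a0 : PS (j + 1))) a0_ne
  have ho : 1 ≤ (orbs act).card :=
    Finset.card_pos.mpr ⟨orb act z, Finset.mem_image_of_mem _ (Finset.mem_univ z)⟩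
  obtain ⟨Q, hQ⟩ : ∃ Q, Fintype.card F ^ (2 * (j + 1)) = Q + 1 :=
    ⟨_, (Nat.sub_add_cancel (Nat.one_le_pow _ _ Fintype.card_pos)).symm⟩
  rw [hQ] at h ⊢
  have : Q ≤ Q * mu act (a0 : PS (j + 1)) := Nat.le_mul_of_pos_right _ (by omega)
  rw [add_mul, one_mul] at h
  omega

/-- The possible shapes when every non-zero vector kills one orbit. -/
theorem trichotomy (hk : 1 ≤ k) (hle : ∀ c : PS k, c ≠ 0 → mu act c ≤ 1) (hmov : ∀ z, ∃ a, act a z ≠ z) :
    ((∀ z w, ∃ a, act a z = w) ∧ ∀ z a, act a z = z → a = 0) ∨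
    2 * (Fintype.card F ^ (2 * k) - 1) ≤ (Fintype.card F - 1) * (orbs act).card ∨
    ∀ z, ∃ v : PS k, v ≠ 0 ∧ (∀ u, B v u = 0 → act u z = z) ∧ (∀ u, act u z = z → B v u = 0) ∧
      ∀ (g : Sp k) (π : Equiv.Perm Z), (∀ a, π * act a = act (ap g a) * π) → (∃ s : F, ap g v = s • v) →
        π z ∈ orb act z := by
  classical
  obtain ⟨j, rfl⟩ : ∃ j, k = j + 1 := ⟨k - 1, by omega⟩
  set q := Fintype.card F with hq
  have hkadd : ∀ {z : Z} {c c' : PS (j + 1)},
      Kills act (wtV c) z → Kills act (wtV c') z → Kills act (wtV (c + c')) z := fun h1 h2 a ha => by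
    rw [wtV_add, AddChar.add_apply, h1 a ha, h2 a ha, one_mul]
  have hkneg : ∀ {z : Z} {c : PS (j + 1)}, Kills act (wtV c) z → Kills act (wtV (-c)) z := fun h1 a ha => by
    have := h1 a ha
    rw [wtV_apply] at this ⊢
    rw [map_neg, LinearMap.neg_apply, AddChar.map_neg_eq_inv, this, inv_one]
  have hk0 : ∀ z : Z, Kills act (wtV (0 : PS (j + 1))) z := fun z => by rw [wtV_zero]; exact kills_one z
  have huniq : ∀ {c : PS (j + 1)}, c ≠ 0 → ∀ {z w : Z}, Kills act (wtV c) z → Kills act (wtV c) w →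
      orb act z = orb act w := fun hc _ _ h1 h2 => orb_eq_of_num_le_one hadd (hle _ hc) h1 h2
  have hex : ∀ z : Z, ∃ v : PS (j + 1), v ≠ 0 ∧ Kills act (wtV v) z := fun z => by
    obtain ⟨χ, hχ, hk⟩ := exists_kills hadd (hmov z)
    obtain ⟨c, rfl⟩ := wtV_bijective.2 χ
    exact ⟨c, fun h => hχ (by rw [h, wtV_zero]), hk⟩
  -- the stabilised vectors of an orbit
  have hinv : ∀ (z : Z) (v : PS (j + 1)), v ≠ 0 → Kills act (wtV v) z → ∀ (w : PS (j + 1)) (x : F),
      B v w = 0 → ∀ e, Kills act (wtV e) z → Kills act (wtV (ap (tr w x) e)) z := by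
    intro z v hv hvz w x hw e he
    obtain ⟨π, hπ⟩ := hsym w x
    have hT : Function.Surjective (ap (tr w x)) := fun b => ⟨_, ap_inv_ap (tr w x) b⟩
    have h1 : Kills act (wtV (ap (tr w x) e)) (π z) :=
      kills_map hadd hT hπ (fun a => by rw [wtV_apply, wtV_apply, B_ap]) he
    have h2 : Kills act (wtV v) (π z) :=
      kills_map hadd hT hπ (fun a => by
        rw [wtV_apply, wtV_apply]
        congr 1
        conv_lhs => rw [show v = ap (tr w x) v by rw [tr_ap, hw, mul_zero, zero_smul, add_zero]]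
        rw [B_ap]) hvz
    exact kills_of_mem hadd (huniq hv h2 hvz ▸ mem_orb_self hadd z) h1
  by_cases hA : ∃ z v e, v ≠ 0 ∧ Kills act (wtV v) z ∧ Kills act (wtV e) z ∧ ∀ s : F, e ≠ s • v
  · left
    obtain ⟨z, v, e, hv, hvz, hez, hev⟩ := hA
    have hperp : ∀ v e : PS (j + 1), v ≠ 0 → Kills act (wtV v) z → Kills act (wtV e) z →
        (∀ s : F, e ≠ s • v) → ∀ w, B v w = 0 → Kills act (wtV w) z := by
      intro v e hv hvz hez hev
      have hdir : ∀ w, B v w = 0 → B e w ≠ 0 → Kills act (wtV w) z := by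
        intro w hw hew
        have h1 := hkadd (hinv z v hv hvz w (B e w)⁻¹ hw e hez) (hkneg hez)
        rwa [tr_ap, inv_mul_cancel₀ hew, one_smul, show e + w + -e = w by abel] at h1
      intro w hw
      obtain ⟨w₀, hw₀, hew₀⟩ : ∃ w₀, B v w₀ = 0 ∧ B e w₀ ≠ 0 := by
        by_contra! h
        obtain ⟨s, hs⟩ := eq_smul_of_forall hv h
        exact hev s hs
      by_cases hew : B e w = 0
      · have h1 := hkadd (hdir (w + w₀) (by rw [map_add, hw, hw₀, add_zero])
          (by rwa [map_add, hew, zero_add])) (hkneg (hdir w₀ hw₀ hew₀))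
        rwa [add_neg_cancel_right] at h1
      · exact hdir w hw hew
    have he0 : e ≠ 0 := fun h => hev 0 (by rw [h, zero_smul])
    have hve : ∀ s : F, v ≠ s • e := fun s h => by
      rcases eq_or_ne s 0 with rfl | hs
      · exact hv (by rw [h, zero_smul])
      · exact hev s⁻¹ (by rw [h, smul_smul, inv_mul_cancel₀ hs, one_smul])
    obtain ⟨w₁, hw₁, hvw₁⟩ : ∃ w₁, B e w₁ = 0 ∧ B v w₁ ≠ 0 := by
      by_contra! h
      obtain ⟨s, hs⟩ := eq_smul_of_forall he0 h
      exact hve s hs
    have hall : ∀ c, Kills act (wtV c) z := by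
      intro c
      have h1 := hkadd (hperp v e hv hvz hez hev (c - (B v c / B v w₁) • w₁) (by
        rw [map_sub, map_smul, smul_eq_mul, div_mul_cancel₀ _ hvw₁, sub_self]))
        (hperp e v he0 hez hvz hve ((B v c / B v w₁) • w₁) (by rw [map_smul, hw₁, smul_zero]))
      rwa [sub_add_cancel] at h1
    have hfree : ∀ a, act a z = z → a = 0 := fun a => free_of_kills_all hadd fun χ => by
      obtain ⟨c, rfl⟩ := wtV_bijective.2 χ
      exact hall c
    have hone : ∀ w, ∃ a, act a z = w := fun w => by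
      obtain ⟨c, hc, hcw⟩ := hex w
      exact mem_orb.mp (huniq hc (hall c) hcw ▸ mem_orb_self hadd w)
    refine ⟨fun x w => ?_, fun x a ha => ?_⟩
    · obtain ⟨a, ha⟩ := hone x
      obtain ⟨b, hb⟩ := hone w
      refine ⟨b - a, ?_⟩
      rw [← ha, ← Equiv.Perm.mul_apply, ← hadd, sub_add_cancel, hb]
    · obtain ⟨b, rfl⟩ := hone x
      rw [act_comm hadd] at ha
      exact hfree a ((act b).injective ha)
  push Not at hA
  right
  by_cases hB : ∀ z v, v ≠ 0 → Kills act (wtV v) z → ∀ s : F, Kills act (wtV (s • v)) z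
  · right
    intro z
    obtain ⟨v, hv, hvz⟩ := hex z
    refine ⟨v, hv, fun u hu => act_eq_of_forall hadd fun χ hχ => ?_, fun u hu => ?_, fun g π hπ hg => ?_⟩
    · obtain ⟨c, rfl⟩ := wtV_bijective.2 χ
      obtain ⟨s, rfl⟩ := hA z v c hv hvz hχ
      rw [wtV_apply, map_smul, LinearMap.smul_apply, hu, smul_zero, AddChar.map_zero_eq_one]
    · refine eq_of_forall_psi fun s => ?_
      have h1 := hB z v hv hvz s u hu
      rw [wtV_apply, map_smul, LinearMap.smul_apply, smul_eq_mul] at h1
      rw [zero_mul, AddChar.map_zero_eq_one, mul_comm]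
      exact h1
    · obtain ⟨s, hs⟩ := hg
      have hs0 : s ≠ 0 := fun h => hv (ap_injective g (by rw [hs, h, zero_smul, ap_zero]))
      have h1 : Kills act (wtV (s • v)) (π z) :=
        kills_map hadd (fun b => ⟨_, ap_inv_ap g b⟩) hπ (fun a => by
          rw [wtV_apply, wtV_apply, ← hs, B_ap]) hvz
      rw [← huniq (smul_ne_zero hs0 hv) h1 (hB z v hv hvz s)]
      exact mem_orb_self hadd _
  left
  push Not at hB
  obtain ⟨z₀, v₀, hv₀, hk₀, s, hs⟩ := hB
  have hnot : ∀ c : PS (j + 1), c ≠ 0 → ∀ z, Kills act (wtV c) z → ¬ Kills act (wtV (s • c)) z := by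
    intro c hc z hz hzs
    refine hs ?_
    have hP : ∀ z, Kills act (wtV v₀) z → Kills act (wtV (s • v₀)) z := by
      refine tr_connected (P := fun d => ∀ z, Kills act (wtV d) z → Kills act (wtV (s • d)) z)
        (fun v x d hd w hw => ?_) hc hv₀ (fun w hw => kills_of_mem hadd (huniq hc hz hw ▸ mem_orb_self hadd w) hzs)
      rcases eq_or_ne d 0 with rfl | hd0
      · rw [ap_zero, smul_zero]; exact hk0 w
      obtain ⟨π, hπ⟩ := hsym v x
      obtain ⟨π', hπ'⟩ := hsym v (-x)
      have hback : ∀ u, ap (tr v (-x)) (ap (tr v x) u) = u := fun u => by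
        rw [← ap_mul, ← tr_add, neg_add_cancel, tr_zero, ap_one]
      have h1 : Kills act (wtV d) (π' w) :=
        kills_map hadd (fun b => ⟨_, ap_inv_ap (tr v (-x)) b⟩) hπ' (fun a => by
          rw [wtV_apply, wtV_apply]
          conv_lhs => rw [← hback d, B_ap]) hw
      have hT : Function.Surjective (ap (tr v x)) := fun b => ⟨_, ap_inv_ap (tr v x) b⟩
      have h2 : Kills act (wtV (ap (tr v x) d)) (π (π' w)) :=
        kills_map hadd hT hπ (fun a => by rw [wtV_apply, wtV_apply, B_ap]) h1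
      have h3 : Kills act (wtV (s • ap (tr v x) d)) (π (π' w)) :=
        kills_map hadd hT hπ (fun a => by rw [wtV_apply, wtV_apply, ← ap_smul, B_ap]) (hd _ h1)
      have hTd : ap (tr v x) d ≠ 0 := fun e => hd0 (by rw [← hback d, e, ap_zero])
      exact kills_of_mem hadd (huniq hTd h2 hw ▸ mem_orb_self hadd w) h3
    exact hP z₀ hk₀
  -- count the vectors by their orbit
  have hex' : ∀ c : PS (j + 1), c ≠ 0 → ∃ z, Kills act (wtV c) z := by
    intro c hc
    obtain ⟨a, ha⟩ := hmov z₀
    have h1 := one_le_mu hadd hsym ⟨a, ha⟩ hc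
    obtain ⟨o, ho⟩ := Finset.card_pos.mp (show 0 < num act (wtV c) from h1)
    obtain ⟨z, hz, -⟩ := Finset.mem_image.mp ho
    exact ⟨z, (Finset.mem_filter.mp hz).2⟩
  choose f hf using hex'
  set X := (Finset.univ : Finset (PS (j + 1))).erase 0 with hX
  have h1 : 2 * X.card ≤ (q - 1) * (orbs act).card := by
    have hfib : ∀ o ∈ orbs act, 2 * (X.filter fun c => if hc : c ≠ 0 then orb act (f c hc) = o else False).card
        ≤ q - 1 := by
      intro o ho
      set E := X.filter fun c => if hc : c ≠ 0 then orb act (f c hc) = o else False with hE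
      obtain ⟨z, -, rfl⟩ := Finset.mem_image.mp ho
      have hEk : ∀ c ∈ E, c ≠ 0 ∧ Kills act (wtV c) z := by
        intro c hc
        obtain ⟨hcX, hc2⟩ := Finset.mem_filter.mp hc
        have hc0 := Finset.ne_of_mem_erase hcX
        rw [dif_pos hc0] at hc2
        exact ⟨hc0, kills_of_mem hadd (hc2.symm ▸ mem_orb_self hadd z) (hf c hc0)⟩
      rcases E.eq_empty_or_nonempty with hemp | ⟨v, hv⟩
      · simp [hemp]
      obtain ⟨hv0, hvk⟩ := hEk v hv
      have hs0 : s ≠ 0 := fun h => hs (by rw [h, zero_smul]; exact hk0 z₀)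
      have hdisj : Disjoint E (E.image fun c => s • c) := by
        rw [Finset.disjoint_left]
        intro c hc hc'
        obtain ⟨d, hd, rfl⟩ := Finset.mem_image.mp hc'
        exact hnot d (hEk d hd).1 z (hEk d hd).2 (hEk _ hc).2
      have hsub : E ∪ E.image (fun c => s • c) ⊆
          ((Finset.univ : Finset F).erase 0).image fun t => t • v := by
        intro c hc
        rcases Finset.mem_union.mp hc with hc | hc
        · obtain ⟨t, rfl⟩ := hA z v c hv0 hvk (hEk c hc).2
          exact Finset.mem_image.mpr ⟨t, Finset.mem_erase.mpr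
            ⟨fun h => (hEk _ hc).1 (by rw [h, zero_smul]), Finset.mem_univ _⟩, rfl⟩
        · obtain ⟨d, hd, rfl⟩ := Finset.mem_image.mp hc
          obtain ⟨t, rfl⟩ := hA z v d hv0 hvk (hEk d hd).2
          exact Finset.mem_image.mpr ⟨s * t, Finset.mem_erase.mpr
            ⟨mul_ne_zero hs0 fun h => (hEk _ hd).1 (by rw [h, zero_smul]), Finset.mem_univ _⟩,
            (smul_smul _ _ _).symm⟩
      have h2 := (Finset.card_le_card hsub).trans Finset.card_image_le
      rw [Finset.card_union_of_disjoint hdisj, Finset.card_image_of_injective _ (smul_right_injective _ hs0),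
        Finset.card_erase_of_mem (Finset.mem_univ _), Finset.card_univ] at h2
      omega
    have h3 : X.card =
        ∑ o ∈ orbs act, (X.filter fun c => if hc : c ≠ 0 then orb act (f c hc) = o else False).card := by
      have hpart := Finset.card_eq_sum_card_fiberwise (s := X) (t := orbs act)
        (f := fun c => if hc : c ≠ 0 then orb act (f c hc) else orb act z₀) (fun c _ => by
          dsimp only
          split_ifs <;> exact Finset.mem_image_of_mem _ (Finset.mem_univ _))
      rw [hpart]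
      refine Finset.sum_congr rfl fun o _ => congrArg Finset.card (Finset.filter_congr fun c hc => ?_)
      rw [dif_pos (Finset.ne_of_mem_erase hc), dif_pos (Finset.ne_of_mem_erase hc)]
    rw [h3, Finset.mul_sum, mul_comm (q - 1)]
    exact (Finset.sum_le_card_nsmul _ _ _ hfib).trans (le_of_eq (smul_eq_mul _ _))
  rwa [hX, Finset.card_erase_of_mem (Finset.mem_univ _), Finset.card_univ, Fintype.card_fun,
    Fintype.card_sum, Fintype.card_fin, ← two_mul] at h1

end Cfsg.Agent.SpMinIndex
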