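import Cfsg.Agent.Lib.SpMinIndex.Basic
import Cfsg.Agent.Lib.SpMinIndex.Count

/-!
Geometry of the set of vectors whose whole transvection group fixes a point.
-/

set_option autoImplicit false
set_option linter.unusedSectionVars false
set_option maxHeartbeats 400000
set_option synthInstance.maxHeartbeats 100000

namespace Cfsg.Agent.SpMinIndex

open Matrix

variable {F : Type*} [Field F] {m k : ℕ}

local notation "PS" m => (Fin m ⊕ Fin m → F)
local notation "Sp" m => Matrix.symplecticGroup (Fin m) F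
local notation "B" => FormsLib.spB _ F

variable {Ω : Type*} [MulAction (Matrix.symplecticGroup (Fin m) F) Ω]

/-- The whole transvection group at `v` fixes the point. -/
def Full (y : Ω) (v : PS m) : Prop := ∀ x : F, tr v x • y = y

/-- No point stabiliser preserves a non-zero totally isotropic subspace. -/
def NoPar (m : ℕ) (F : Type*) [Field F] (Ω : Type*)
    [MulAction (Matrix.symplecticGroup (Fin m) F) Ω] : Prop :=
  ∀ (y : Ω) (R : Submodule F (Fin m ⊕ Fin m → F)), R ≠ ⊥ →
    (∀ u ∈ R, ∀ v ∈ R, FormsLib.spB m F u v = 0) →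
    ¬ ∀ g : Matrix.symplecticGroup (Fin m) F, g • y = y → ∀ v ∈ R, ap g v ∈ R

variable {y : Ω}

theorem full_smul {v : PS m} (h : Full y v) (s : F) : Full y (s • v) := fun x => by rw [tr_smul, h]

theorem full_zero : Full y (0 : PS m) := fun x => by rw [tr_zero_vec, one_smul]

theorem full_map {v : PS m} (h : Full y v) {g : Sp m} (hg : g • y = y) : Full y (ap g v) := fun x => by
  rw [← tr_conj, mul_smul, mul_smul, inv_smul_eq_iff.mpr hg.symm, h, hg]

theorem full_add_of_ne {a b : PS m} (ha : Full y a) (hb : Full y b) (hab : B a b ≠ 0) : Full y (a + b) := by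
  have e : a + b = ap (tr b (B a b)⁻¹) a := by rw [tr_ap, inv_mul_cancel₀ hab, one_smul]
  exact e ▸ full_map ha (hb _)

/-- The vectors orthogonal to a submodule. -/
def perp (R : Submodule F (PS m)) : Submodule F (PS m) where
  carrier := {w | ∀ r ∈ R, B r w = 0}
  zero_mem' := fun r _ => map_zero _
  add_mem' := fun {x z} hx hz r hr => by rw [map_add, hx r hr, hz r hr, add_zero]
  smul_mem' := fun c x hx r hr => by rw [map_smul, hx r hr, smul_zero]

theorem exists_perp_ne_zero {R : Submodule F (PS m)} (h : R ≠ ⊤) : perp R ≠ ⊥ := by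
  obtain ⟨f, hf, hfR⟩ := R.exists_le_ker_of_lt_top (lt_top_iff_ne_top.mpr h)
  obtain ⟨t, ht⟩ := (LinearMap.injective_iff_surjective_of_finrank_eq_finrank
    (f := FormsLib.spB m F) Subspace.dual_finrank_eq.symm).mp
    (fun u u' e => sub_eq_zero.mp (FormsLib.spB_nondeg.1 _ fun w => by
      rw [map_sub, e, sub_self, LinearMap.zero_apply])) f
  refine (Submodule.ne_bot_iff _).mpr ⟨t, fun r hr => ?_, fun h0 => hf ?_⟩
  · rw [B_swap, ht, LinearMap.mem_ker.mp (hfR hr), neg_zero]
  · rw [← ht, h0, map_zero]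

theorem perp_invariant {R : Submodule F (PS m)} {g : Sp m} (hR : ∀ v ∈ R, ap g⁻¹ v ∈ R) {w : PS m}
    (hw : w ∈ perp R) : ap g w ∈ perp R := fun r hr => by
  rw [← ap_inv_ap g r, B_ap]
  exact hw _ (hR r hr)

/-- The full vectors as a submodule. -/
def fullSub (y : Ω) (hline : ∀ a c : PS m, B a c = 0 → Full y a → Full y c → Full y (a + c)) :
    Submodule F (PS m) where
  carrier := {v | Full y v}
  zero_mem' := full_zero
  add_mem' := fun {a c} ha hc => by
    by_cases h : B a c = 0
    · exact hline a c h ha hc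
    · exact full_add_of_ne ha hc h
  smul_mem' := fun s v hv => full_smul hv s

theorem fullSub_invariant (hline : ∀ a c : PS m, B a c = 0 → Full y a → Full y c → Full y (a + c))
    {g : Sp m} (hg : g • y = y) {v : PS m} (hv : v ∈ fullSub y hline) : ap g v ∈ fullSub y hline :=
  full_map hv hg

variable (hP : NoPar m F Ω)
include hP

/-- The radical of an invariant submodule vanishes. -/
theorem radical_eq_bot {R : Submodule F (PS m)} (hinv : ∀ g : Sp m, g • y = y → ∀ v ∈ R, ap g v ∈ R) :
    R ⊓ perp R = ⊥ := by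
  by_contra h
  exact hP y _ h (fun u hu v hv => hv.2 u hu.1) fun g hg v hv =>
    ⟨hinv g hg v hv.1, perp_invariant (hinv g⁻¹ (inv_smul_eq_iff.mpr hg.symm)) hv.2⟩

/-- If every radical element at a full vector fixes the point then there is no full vector. -/
theorem no_full_of_radical (hT : ¬ ∀ v : PS m, Full y v)
    (hQ : ∀ a : PS m, Full y a → ∀ c, B a c = 0 → rE a c • y = y) {v : PS m} (hv : Full y v) : v = 0 := by
  have hline : ∀ a c : PS m, B a c = 0 → Full y a → Full y c → Full y (a + c) := fun a c h ha hc x => by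
    have e := tr_line h 1 1 x
    simp only [one_smul, one_mul] at e
    rw [e, mul_smul, mul_smul, hQ a ha (x • c) (by rw [map_smul, h, smul_zero]), hc, ha]
  set R := fullSub y hline
  have hinv : ∀ g : Sp m, g • y = y → ∀ w ∈ R, ap g w ∈ R := fun g hg w hw => fullSub_invariant hline hg hw
  have hrad := radical_eq_bot hP hinv
  by_contra hv0
  obtain ⟨r, hr, hr'⟩ : ∃ r ∈ R, B r v ≠ 0 := by
    by_contra! h
    exact hv0 ((Submodule.eq_bot_iff _).mp hrad v ⟨hv, h⟩)
  refine exists_perp_ne_zero (R := R) (fun htop => hT fun w => (htop ▸ Submodule.mem_top : w ∈ R)) ?_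
  refine (Submodule.eq_bot_iff _).mpr fun u hu => (Submodule.eq_bot_iff _).mp hrad u ⟨?_, hu⟩
  have h0 : B v u = 0 := hu v hv
  have h1 := hinv _ (hQ v hv u h0) r hr
  rw [rE_ap h0, hu r hr, zero_smul, add_zero] at h1
  have h2 : B r v • u ∈ R := by
    have := R.sub_mem h1 hr
    rwa [add_sub_cancel_left] at this
  have := R.smul_mem (B r v)⁻¹ h2
  rwa [smul_smul, inv_mul_cancel₀ hr', one_smul] at this

/-- The full vectors cannot form a submodule meeting every totally isotropic line outside it. -/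
theorem false_of_meets (hT : ¬ ∀ v : PS m, Full y v)
    (hline : ∀ a c : PS m, B a c = 0 → Full y a → Full y c → Full y (a + c))
    (hex : ∃ v : PS m, v ≠ 0 ∧ Full y v)
    (hmeet : ∀ a c : PS m, ¬ Full y a → B a c = 0 → (∀ s : F, c ≠ s • a) →
      ∃ p r : F, (p ≠ 0 ∨ r ≠ 0) ∧ Full y (p • a + r • c)) : False := by
  set R := fullSub y hline
  have hinv : ∀ g : Sp m, g • y = y → ∀ w ∈ R, ap g w ∈ R := fun g hg w hw => fullSub_invariant hline hg hw
  obtain ⟨a, ha, r₁, hr₁, hr₁'⟩ : ∃ a, a ∉ R ∧ ∃ r ∈ R, B r a ≠ 0 := by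
    by_contra! h
    obtain ⟨v, hv0, hv⟩ := hex
    obtain ⟨b, hb⟩ : ∃ b, b ∉ R := by
      by_contra! hall
      exact hT hall
    refine hv0 (FormsLib.spB_nondeg.1 v fun w => ?_)
    by_cases hw : w ∈ R
    · have h1 := h (w + b) (fun hwb => hb (by simpa using R.sub_mem hwb hw)) v hv
      rwa [map_add, h b hb v hv, add_zero] at h1
    · exact h w hw v hv
  have hspan : ∀ w : PS m, ∃ r ∈ R, ∃ s : F, w = r + s • a := by
    have hperp : ∀ w : PS m, B a w = 0 → ∃ r ∈ R, ∃ s : F, w = r + s • a := by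
      intro w hw
      by_cases hs : ∃ s : F, w = s • a
      · obtain ⟨s, rfl⟩ := hs
        exact ⟨0, R.zero_mem, s, (zero_add _).symm⟩
      push Not at hs
      obtain ⟨p, r, hpr, hfull⟩ := hmeet a w ha hw hs
      have hr0 : r ≠ 0 := by
        rintro rfl
        rw [zero_smul, add_zero] at hfull
        have hp : p ≠ 0 := hpr.resolve_right (not_not.mpr rfl)
        have := full_smul hfull p⁻¹
        rw [smul_smul, inv_mul_cancel₀ hp, one_smul] at this
        exact ha this
      refine ⟨r⁻¹ • (p • a + r • w), R.smul_mem _ hfull, -(r⁻¹ * p), ?_⟩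
      rw [smul_add, smul_smul, smul_smul, inv_mul_cancel₀ hr0, one_smul, neg_smul]
      abel
    intro w
    have hne : B a r₁ ≠ 0 := by rw [B_swap r₁ a]; exact neg_ne_zero.mpr hr₁'
    obtain ⟨r, hr, s, e⟩ := hperp (w - (B a w / B a r₁) • r₁) (by
      rw [map_sub, map_smul, smul_eq_mul, div_mul_cancel₀ _ hne, sub_self])
    refine ⟨r + (B a w / B a r₁) • r₁, R.add_mem hr (R.smul_mem _ hr₁), s, ?_⟩
    rw [add_right_comm, ← e, sub_add_cancel]
  have hker : ∀ t ∈ perp R, B t a = 0 → t = 0 := fun t ht h => FormsLib.spB_nondeg.1 t fun w => by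
    obtain ⟨r, hr, s, rfl⟩ := hspan w
    rw [map_add, map_smul, h, smul_zero, add_zero, B_swap r t, ht r hr, neg_zero]
  refine hP y (perp R) (exists_perp_ne_zero fun htop => ha (htop ▸ Submodule.mem_top)) ?_
    fun g hg v hv => perp_invariant (hinv g⁻¹ (inv_smul_eq_iff.mpr hg.symm)) hv
  intro t ht t' ht'
  by_cases h : B t a = 0
  · rw [hker t ht h, map_zero, LinearMap.zero_apply]
  have e : B t a • t' - B t' a • t = 0 := hker _
    ((perp R).sub_mem ((perp R).smul_mem _ ht') ((perp R).smul_mem _ ht)) (by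
      simp only [map_sub, map_smul, LinearMap.sub_apply, LinearMap.smul_apply, smul_eq_mul]; ring)
  have h1 := congrArg (B t) e
  rw [map_sub, map_smul, map_smul, B_self, smul_zero, sub_zero, map_zero, smul_eq_mul] at h1
  exact (mul_eq_zero.mp h1).resolve_left h

omit hP

/-- The group of symmetric matrices of a totally isotropic line, as permutations. -/
noncomputable def lineP {a c : PS m} (_h : B a c = 0) (u : F × F × F) : Equiv.Perm Ω :=
  MulAction.toPerm (tr a u.1 * tr c u.2.2 * rE a (u.2.1 • c))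

theorem lineP_add {a c : PS m} (h : B a c = 0) (u v : F × F × F) :
    (lineP h (u + v) : Equiv.Perm Ω) = lineP h u * lineP h v := by
  have e : tr a (u + v).1 * tr c (u + v).2.2 * rE a ((u + v).2.1 • c) =
      (tr a u.1 * tr c u.2.2 * rE a (u.2.1 • c)) * (tr a v.1 * tr c v.2.2 * rE a (v.2.1 • c)) := by
    refine ext_ap fun w => ?_
    have h1 : ∀ s : F, B a (s • c) = 0 := fun s => by rw [map_smul, h, smul_zero]
    simp only [ap_mul, rE_ap (h1 _), tr_ap]
    funext i
    simp only [Prod.fst_add, Prod.snd_add, map_add, map_smul, LinearMap.add_apply, LinearMap.smul_apply,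
      B_self, B_swap a c, h, neg_zero, smul_zero, add_zero, smul_eq_mul, Pi.add_apply, Pi.smul_apply]
    ring
  exact Equiv.ext fun x => by
    show (tr a (u + v).1 * tr c (u + v).2.2 * rE a ((u + v).2.1 • c)) • x = _
    rw [e, mul_smul]; rfl

theorem lineP_tr {a c : PS m} (h : B a c = 0) (p r x : F) (z : Ω) :
    lineP h (p * p * x, p * r * x, r * r * x) z = tr (p • a + r • c) x • z := by
  show (tr a (p * p * x) * tr c (r * r * x) * rE a ((p * r * x) • c)) • z = _
  rw [← tr_line h]

section Odd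

variable [Fintype F]

/-- A binary quadratic form missing a non-zero value is degenerate. -/
theorem discr_eq_zero (hodd : Fintype.card F % 2 = 1) {α β δ κ : F}
    (h : ∀ p r : F, α * (p * p) + β * (p * r) + δ * (r * r) ≠ κ) : β * β = 4 * (α * δ) := by
  classical
  by_contra hne
  rcases eq_or_ne α 0 with rfl | hα
  · rw [zero_mul, mul_zero] at hne
    have hβ : β ≠ 0 := fun e => hne (by rw [e, zero_mul])
    exact h ((κ - δ) / β) 1 (by field_simp; ring)
  have h2 : (2 : F) ≠ 0 := by
    intro e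
    have h3 : ringChar F ≠ 2 := fun e' => by
      have := (FiniteField.even_card_iff_char_two (F := F)).mp e'
      omega
    exact h3 (ringChar.eq_iff.mpr ((CharTwo.of_one_ne_zero_of_two_eq_zero one_ne_zero e)))
  have h4 : (4 : F) ≠ 0 := by
    rw [show (4 : F) = 2 * 2 by norm_num]; exact mul_ne_zero h2 h2
  have hδ : δ - β * β / (4 * α) ≠ 0 := fun e => hne (by
    rw [sub_eq_zero] at e
    rw [e]; field_simp; try ring)
  obtain ⟨X, r, hXr⟩ := FiniteField.exists_root_sum_quadratic
    (f := Polynomial.C α * Polynomial.X ^ 2 + Polynomial.C (-κ))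
    (g := Polynomial.C (δ - β * β / (4 * α)) * Polynomial.X ^ 2)
    (by rw [Polynomial.degree_add_C (by rw [Polynomial.degree_C_mul_X_pow 2 hα]; norm_num),
      Polynomial.degree_C_mul_X_pow 2 hα]; rfl)
    (by rw [Polynomial.degree_C_mul_X_pow 2 hδ]; rfl) hodd
  simp only [Polynomial.eval_add, Polynomial.eval_mul, Polynomial.eval_C, Polynomial.eval_pow,
    Polynomial.eval_X] at hXr
  refine h (X - β * r / (2 * α)) r ?_
  rw [← sub_eq_zero, ← hXr]
  field_simp
  ring

variable (y)

/-- In odd characteristic, a point all of whose moved root groups avoid one character class has a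
stabiliser preserving a totally isotropic subspace. -/
theorem false_of_avoids (hodd : Fintype.card F % 2 = 1) (hP : NoPar m F Ω) [Fintype Ω] [DecidableEq Ω]
    (hT : ¬ ∀ v : PS m, Full y v) (hperp : ∀ a : PS m, ∃ c, B a c = 0 ∧ ∀ s : F, c ≠ s • a)
    {κ : F} (hκ : κ ≠ 0)
    (hav : ∀ v : PS m, ¬ Full y v →
      ¬ Kills (fun x : F => (MulAction.toPerm (tr v x) : Equiv.Perm Ω)) (wtF κ) y) : False := by
  classical
  -- the characters of a line
  have hkey : ∀ (a c : PS m) (h : B a c = 0) (χ : AddChar (F × F × F) ℂ),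
      Kills (lineP h) χ y → ∃ α β δ : F, (∀ u, χ u = AbelianProj.psi F (α * u.1 + β * u.2.1 + δ * u.2.2)) ∧
        β * β = 4 * (α * δ) := by
    intro a c h χ hχ
    obtain ⟨α, hα⟩ := wtF_bijective.2 (χ.compAddMonoidHom (AddMonoidHom.inl F (F × F)))
    obtain ⟨β, hβ⟩ := wtF_bijective.2
      (χ.compAddMonoidHom ((AddMonoidHom.inr F (F × F)).comp (AddMonoidHom.inl F F)))
    obtain ⟨δ, hδ⟩ := wtF_bijective.2
      (χ.compAddMonoidHom ((AddMonoidHom.inr F (F × F)).comp (AddMonoidHom.inr F F)))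
    have hu : ∀ u, χ u = AbelianProj.psi F (α * u.1 + β * u.2.1 + δ * u.2.2) := by
      intro u
      have e1 := DFunLike.congr_fun hα u.1
      have e2 := DFunLike.congr_fun hβ u.2.1
      have e3 := DFunLike.congr_fun hδ u.2.2
      rw [wtF_apply] at e1 e2 e3
      rw [AddChar.map_add_eq_mul, AddChar.map_add_eq_mul, e1, e2, e3]
      show _ = χ (u.1, 0) * χ (0, u.2.1, 0) * χ (0, 0, u.2.2)
      rw [← AddChar.map_add_eq_mul, ← AddChar.map_add_eq_mul]
      congr 1
      ext <;> simp
    refine ⟨α, β, δ, hu, discr_eq_zero (κ := κ) hodd fun p r e => ?_⟩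
    have hk : ∀ x : F, tr (p • a + r • c) x • y = y → AbelianProj.psi F (κ * x) = 1 := fun x hx => by
      have h1 := hχ (p * p * x, p * r * x, r * r * x) (by rw [lineP_tr]; exact hx)
      rw [hu] at h1
      rw [← h1, ← e]
      congr 1
      ring
    by_cases hf : Full y (p • a + r • c)
    · obtain ⟨x, hx⟩ := exists_psi_ne_one hκ
      exact hx (hk x (hf x))
    · exact hav _ hf fun x hx => by rw [wtF_apply]; exact hk x hx
  have hfull : ∀ (a c : PS m) (h : B a c = 0) (p r : F),
      (∀ χ : AddChar (F × F × F) ℂ, Kills (lineP h) χ y → ∀ x, χ (p * p * x, p * r * x, r * r * x) = 1) →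
      Full y (p • a + r • c) := fun a c h p r hp x => by
    rw [← lineP_tr h]
    exact act_eq_of_forall (lineP_add h) fun χ hχ => hp χ hχ x
  -- the sum of two killing characters
  have hcross : ∀ (a c : PS m) (h : B a c = 0) (χ χ' : AddChar (F × F × F) ℂ),
      Kills (lineP h) χ y → Kills (lineP h) χ' y → ∀ α β δ α' β' δ' : F,
      (∀ u, χ u = AbelianProj.psi F (α * u.1 + β * u.2.1 + δ * u.2.2)) →
      (∀ u, χ' u = AbelianProj.psi F (α' * u.1 + β' * u.2.1 + δ' * u.2.2)) →
      2 * (β * β') = 4 * (α * δ' + α' * δ) ∧ β * β = 4 * (α * δ) ∧ β' * β' = 4 * (α' * δ') := by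
    intro a c h χ χ' hχ hχ' α β δ α' β' δ' hu hu'
    have huniq : ∀ {χ : AddChar (F × F × F) ℂ} {α β δ α₁ β₁ δ₁ : F},
        (∀ u, χ u = AbelianProj.psi F (α * u.1 + β * u.2.1 + δ * u.2.2)) →
        (∀ u, χ u = AbelianProj.psi F (α₁ * u.1 + β₁ * u.2.1 + δ₁ * u.2.2)) → α = α₁ ∧ β = β₁ ∧ δ = δ₁ := by
      intro χ α β δ α₁ β₁ δ₁ h1 h2
      refine ⟨eq_of_forall_psi fun x => ?_, eq_of_forall_psi fun x => ?_, eq_of_forall_psi fun x => ?_⟩
      · simpa using (h1 (x, 0, 0)).symm.trans (h2 (x, 0, 0))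
      · simpa using (h1 (0, x, 0)).symm.trans (h2 (0, x, 0))
      · simpa using (h1 (0, 0, x)).symm.trans (h2 (0, 0, x))
    obtain ⟨A, Bc, D, hA, hd⟩ := hkey a c h (χ + χ') fun u hu0 => by
      rw [AddChar.add_apply, hχ u hu0, hχ' u hu0, one_mul]
    obtain ⟨A1, B1, D1, hA1, hd1⟩ := hkey a c h χ hχ
    obtain ⟨A2, B2, D2, hA2, hd2⟩ := hkey a c h χ' hχ'
    obtain ⟨rfl, rfl, rfl⟩ := huniq hu hA1
    obtain ⟨rfl, rfl, rfl⟩ := huniq hu' hA2
    obtain ⟨rfl, rfl, rfl⟩ := huniq (fun u => by
      rw [AddChar.add_apply, hu, hu', ← AddChar.map_add_eq_mul]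
      congr 1
      ring : ∀ u, (χ + χ') u =
        AbelianProj.psi F ((α + α') * u.1 + (β + β') * u.2.1 + (δ + δ') * u.2.2)) hA
    exact ⟨by linear_combination hd - hd1 - hd2, hd1, hd2⟩
  have h2 : (2 : F) ≠ 0 := by
    intro e
    have h3 : ringChar F ≠ 2 := fun e' => by
      have := (FiniteField.even_card_iff_char_two (F := F)).mp e'
      omega
    exact h3 (ringChar.eq_iff.mpr ((CharTwo.of_one_ne_zero_of_two_eq_zero one_ne_zero e)))
  -- every line outside meets the full vectors
  have hmeet : ∀ a c : PS m, B a c = 0 → ∃ p r : F, (p ≠ 0 ∨ r ≠ 0) ∧ Full y (p • a + r • c) := by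
    intro a c h
    by_cases hA : ∀ χ : AddChar (F × F × F) ℂ, Kills (lineP h) χ y → χ = 0
    · exact ⟨1, 0, Or.inl one_ne_zero, hfull a c h 1 0 fun χ hχ x => by rw [hA χ hχ, AddChar.zero_apply]⟩
    push Not at hA
    obtain ⟨χ, hχ, hχ0⟩ := hA
    obtain ⟨α, β, δ, hu, hd⟩ := hkey a c h χ hχ
    rcases eq_or_ne α 0 with rfl | hα
    · have hβ : β = 0 := by simpa using hd
      have hδ : δ ≠ 0 := fun e => hχ0 (by
        ext u
        rw [hu, hβ, e, zero_mul, zero_mul, zero_mul, add_zero, add_zero, AddChar.map_zero_eq_one,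
          AddChar.zero_apply])
      refine ⟨1, 0, Or.inl one_ne_zero, hfull a c h 1 0 fun χ' hχ' x => ?_⟩
      obtain ⟨α', β', δ', hu', -⟩ := hkey a c h χ' hχ'
      obtain ⟨e, -, -⟩ := hcross a c h χ χ' hχ hχ' _ _ _ _ _ _ hu hu'
      rw [hβ] at e
      have : α' = 0 := by
        have e1 : (2 * 2 * δ) * α' = 0 := by linear_combination -e
        exact (mul_eq_zero.mp e1).resolve_left (mul_ne_zero (mul_ne_zero h2 h2) hδ)
      rw [hu', this]
      simp
    · refine ⟨-β, 2 * α, Or.inr (mul_ne_zero h2 hα), hfull a c h _ _ fun χ' hχ' x => ?_⟩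
      obtain ⟨α', β', δ', hu', -⟩ := hkey a c h χ' hχ'
      obtain ⟨e, hd1, -⟩ := hcross a c h χ χ' hχ hχ' _ _ _ _ _ _ hu hu'
      rw [hu', ← AddChar.map_zero_eq_one (AbelianProj.psi F)]
      congr 1
      linear_combination α' * x * hd1 - α * x * e
  have hline : ∀ a c : PS m, B a c = 0 → Full y a → Full y c → Full y (a + c) := by
    intro a c h ha hc
    have := hfull a c h 1 1 fun χ hχ x => by
      obtain ⟨α, β, δ, hu, hd⟩ := hkey a c h χ hχ
      have hα : α = 0 := eq_of_forall_psi fun x => by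
        have h1 := hχ (1 * 1 * x, 1 * 0 * x, 0 * 0 * x) (by
          rw [lineP_tr h, one_smul, zero_smul, add_zero]; exact ha x)
        rw [hu] at h1
        simpa using h1
      have hδ : δ = 0 := eq_of_forall_psi fun x => by
        have h1 := hχ (0 * 0 * x, 0 * 1 * x, 1 * 1 * x) (by
          rw [lineP_tr h, one_smul, zero_smul, zero_add]; exact hc x)
        rw [hu] at h1
        simpa using h1
      have hβ : β = 0 := by rw [hα] at hd; simpa using hd
      rw [hu, hα, hβ, hδ]
      simp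
    simpa using this
  obtain ⟨v, hv⟩ := not_forall.mp hT
  obtain ⟨c, hc, hcs⟩ := hperp v
  obtain ⟨p, r, hpr, hf⟩ := hmeet v c hc
  refine false_of_meets hP hT hline ⟨_, fun e => ?_, hf⟩ fun a c _ h _ => hmeet a c h
  rcases eq_or_ne r 0 with rfl | hr
  · rw [zero_smul, add_zero, smul_eq_zero] at e
    rcases e with e | e
    · exact hpr.elim (fun h => h e) (fun h => h rfl)
    · exact hv (e ▸ full_zero)
  · refine hcs (-(r⁻¹ * p)) ?_
    rw [add_eq_zero_iff_neg_eq] at e
    rw [neg_smul, mul_smul, ← smul_neg, e, smul_smul, inv_mul_cancel₀ hr, one_smul]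

end Odd

section Even

variable [CharP F 2]

/-- In characteristic two, not every root group orbit can be invariant under the radical. -/
theorem false_of_short (hq : ∃ s : F, s ≠ 0 ∧ s ≠ 1) (hsq : ∀ x : F, ∃ s, s * s = x)
    (hperp : ∀ a : PS m, a ≠ 0 → ∃ c d, B a c = 0 ∧ B a d = 0 ∧ B d c = 1)
    (hnp : ∀ a c : PS m, ∃ e, e ≠ 0 ∧ B a e = 0 ∧ B c e = 0)
    (hT : ¬ ∀ v : PS m, Full y v)
    (hshort : ∀ a : PS m, ¬ Full y a → ∀ u, B a u = 0 → ∃ z, (rE a u * tr a z) • y = y) : False := by
  have h2 : ∀ x : F, x + x = 0 := CharTwo.add_self_eq_zero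
  -- at most one non-zero third coordinate
  have hone : ∀ (a c : PS m) (h : B a c = 0), ¬ Full y a → (∀ s : F, c ≠ s • a) → ∀ u v : F × F × F,
      lineP h u y = y → lineP h v y = y → u.2.2 ≠ 0 → v.2.2 ≠ 0 → u.2.2 = v.2.2 := by
    intro a c h ha hcs u v hu hv hu0 hv0
    by_contra hne
    refine ha fun z => ?_
    obtain ⟨d, hd, hdc⟩ : ∃ d, B a d = 0 ∧ B d c = 1 := by
      obtain ⟨d₀, hd₀, hd₀'⟩ : ∃ d, B a d = 0 ∧ B c d ≠ 0 := by
        by_contra! hall
        obtain ⟨s, hs⟩ := eq_smul_of_forall (fun e => ha (by rw [e]; exact full_zero)) fun w hw => hall w hw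
        exact hcs s hs
      refine ⟨(B d₀ c)⁻¹ • d₀, by rw [map_smul, hd₀, smul_zero], ?_⟩
      have : B d₀ c ≠ 0 := by rw [B_swap c d₀]; exact neg_ne_zero.mpr hd₀'
      rw [map_smul, LinearMap.smul_apply, smul_eq_mul, inv_mul_cancel₀ this]
    have hK : ∀ (w : F × F × F), lineP h w y = y → ∀ s : F,
        lineP h (w.2.2 * s * s, w.2.2 * s, 0) y = y := by
      intro w hw s
      have hsd : B a (s • d) = 0 := by rw [map_smul, hd, smul_zero]
      obtain ⟨z2, hz2⟩ := hshort a ha (s • d) hsd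
      set g : Sp m := tr a w.1 * tr c w.2.2 * rE a (w.2.1 • c) with hg
      have hg' : g • y = y := hw
      have e : g * (rE a (s • d) * tr a z2) * g⁻¹ * (rE a (s • d) * tr a z2) =
          tr a (w.2.2 * s * s) * tr c 0 * rE a ((w.2.2 * s) • c) := by
        have hgu : B a (ap g (s • d)) = 0 := by
          have hga : ap g a = a := by
            have h1 : B a (w.2.1 • c) = 0 := by rw [map_smul, h, smul_zero]
            simp [hg, ap_mul, rE_ap h1, tr_ap, h, B_self]
          rw [← hga, B_ap, hsd]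
        have hga : ap g a = a := by
          have h1 : B a (w.2.1 • c) = 0 := by rw [map_smul, h, smul_zero]
          simp [hg, ap_mul, rE_ap h1, tr_ap, h, B_self]
        have hconj : g * (rE a (s • d) * tr a z2) * g⁻¹ = rE a (ap g (s • d)) * tr a z2 := by
          rw [show g * (rE a (s • d) * tr a z2) * g⁻¹ = (g * rE a (s • d) * g⁻¹) * (g * tr a z2 * g⁻¹) by group,
            rE_conj, tr_conj, hga]
        rw [hconj]
        refine ext_ap fun x => ?_
        have h1 : B a (w.2.1 • c) = 0 := by rw [map_smul, h, smul_zero]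
        have h3 : B a ((w.2.2 * s) • c) = 0 := by rw [map_smul, h, smul_zero]
        have hcd : B c d = 1 := by rw [B_swap d c, hdc, CharTwo.neg_eq]
        have hval : ap g (s • d) = s • d + (w.2.2 * s) • c + (s * w.2.1) • a := by
          simp only [hg, ap_mul, rE_ap h1, tr_ap]
          funext i
          simp only [map_add, map_smul, LinearMap.add_apply, LinearMap.smul_apply, B_self, B_swap a c, h,
            B_swap a d, hd, hdc, neg_zero, smul_zero, add_zero, smul_eq_mul, Pi.add_apply, Pi.smul_apply]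
          ring
        rw [hval] at hgu ⊢
        simp only [ap_mul, rE_ap hsd, rE_ap hgu, rE_ap h3, tr_ap]
        funext i
        simp only [map_add, map_smul, LinearMap.add_apply, LinearMap.smul_apply, B_self, B_swap a c, h,
          B_swap a d, hd, hdc, hcd, neg_zero, smul_zero, add_zero, smul_eq_mul, Pi.add_apply, Pi.smul_apply]
        linear_combination
          (B x a * s * d i + s * B x d * a i + s * w.2.1 * a i * B x a + z2 * B x a * a i) *
            (CharTwo.two_eq_zero : (2 : F) = 0)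
      show (tr a (w.2.2 * s * s) * tr c 0 * rE a ((w.2.2 * s) • c)) • y = y
      rw [← e, mul_smul, hz2, mul_smul, mul_smul, inv_smul_eq_iff.mpr hg'.symm, hz2, hg']
    obtain ⟨t, ht⟩ := hsq (z * (u.2.2⁻¹ + v.2.2⁻¹)⁻¹)
    have hne' : u.2.2⁻¹ + v.2.2⁻¹ ≠ 0 := fun e => hne (inv_injective (CharTwo.add_eq_zero.mp e))
    have h1 := hK u hu (t * u.2.2⁻¹)
    have h2' := hK v hv (t * v.2.2⁻¹)
    have h3 : lineP h ((u.2.2 * (t * u.2.2⁻¹) * (t * u.2.2⁻¹), u.2.2 * (t * u.2.2⁻¹), 0) +
        (v.2.2 * (t * v.2.2⁻¹) * (t * v.2.2⁻¹), v.2.2 * (t * v.2.2⁻¹), (0 : F))) y = y := by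
      rw [lineP_add, Equiv.Perm.mul_apply, h2', h1]
    have e1 : ((u.2.2 * (t * u.2.2⁻¹) * (t * u.2.2⁻¹), u.2.2 * (t * u.2.2⁻¹), (0 : F)) +
        (v.2.2 * (t * v.2.2⁻¹) * (t * v.2.2⁻¹), v.2.2 * (t * v.2.2⁻¹), (0 : F))) =
        (1 * 1 * z, 1 * 0 * z, 0 * 0 * z) := by
      simp only [Prod.mk_add_mk]
      have : z = t * t * (u.2.2⁻¹ + v.2.2⁻¹) := by rw [ht, inv_mul_cancel_right₀ hne']
      refine Prod.ext ?_ (Prod.ext ?_ ?_)
      · show _ = 1 * 1 * z
        rw [this]; field_simp
      · show _ = 1 * 0 * z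
        field_simp
        rw [h2 1]; ring
      · show _ = 0 * 0 * z
        ring
    rw [e1, lineP_tr, one_smul, zero_smul, add_zero] at h3
    exact h3
  obtain ⟨s, hs0, hs1⟩ := hq
  -- a full vector is orthogonal to no other vector
  have horth : ∀ a c : PS m, ¬ Full y a → B a c = 0 → (∀ t : F, c ≠ t • a) → ¬ Full y c := by
    intro a c ha h hcs hc
    have hmem : ∀ x : F, lineP h (0 * 0 * x, 0 * 1 * x, 1 * 1 * x) y = y := fun x => by
      rw [lineP_tr, zero_smul, one_smul, zero_add, hc x]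
    have := hone a c h ha hcs _ _ (hmem 1) (hmem s) (by simp) (by simpa using hs0)
    exact hs1 (by simpa using this.symm)
  obtain ⟨a₁, ha₁⟩ := not_forall.mp hT
  have hnone : ∀ v : PS m, v ≠ 0 → ¬ Full y v := by
    intro v hv hfull
    have ha0 : a₁ ≠ 0 := fun e => ha₁ (e ▸ full_zero)
    obtain ⟨e, he0, hae, hve⟩ := hnp a₁ v
    have hev : B e v = 0 := by rw [B_swap v e, hve, neg_zero]
    have he : ¬ Full y e := by
      by_cases hs : ∃ t : F, e = t • a₁
      · obtain ⟨t, rfl⟩ := hs
        have ht : t ≠ 0 := fun e => he0 (by rw [e, zero_smul])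
        intro hh
        have := full_smul hh t⁻¹
        rw [smul_smul, inv_mul_cancel₀ ht, one_smul] at this
        exact ha₁ this
      · push Not at hs
        exact horth a₁ e ha₁ hae hs
    by_cases hs : ∃ t : F, v = t • e
    · obtain ⟨t, rfl⟩ := hs
      have ht : t ≠ 0 := fun e => hv (by rw [e, zero_smul])
      have := full_smul hfull t⁻¹
      rw [smul_smul, inv_mul_cancel₀ ht, one_smul] at this
      exact he this
    · push Not at hs
      exact horth e v he hev hs hfull
  -- hence the radical elements fix the point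
  have hfix : ∀ a c : PS m, a ≠ 0 → B a c = 0 → rE a c • y = y := by
    intro a c ha h
    by_cases hs : ∃ t : F, c = t • a
    · obtain ⟨t, rfl⟩ := hs
      rw [rE_smul_self, CharTwo.two_eq_zero, zero_mul, tr_zero, one_smul]
    push Not at hs
    have hc : c ≠ 0 := fun e => hs 0 (by rw [zero_smul, e])
    have h' : B c a = 0 := by rw [B_swap a c, h, neg_zero]
    obtain ⟨z, hz⟩ := hshort c (hnone c hc) a h'
    have hswap : rE c a = rE a ((1 : F) • c) := by rw [rE_smul_swap h, one_smul]
    have hswap' : ∀ (u : F × F × F), lineP h' (u.2.2, u.2.1, u.1) y = lineP h u y := by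
      intro u
      show (tr c u.2.2 * tr a u.1 * rE c (u.2.1 • a)) • y = _
      rw [← rE_smul_swap h, (tr_commute h' _ _).eq]
      rfl
    have hmem : lineP h (0, 1, z) y = y := by
      show (tr a 0 * tr c z * rE a ((1 : F) • c)) • y = y
      rw [tr_zero, one_mul, ← hswap, (rE_tr_commute h' z).eq, hz]
    rcases eq_or_ne z 0 with rfl | hz0
    · rw [tr_zero, mul_one, hswap, one_smul] at hz
      exact hz
    exfalso
    -- two values in the first coordinate
    obtain ⟨d, hd, hdc⟩ : ∃ d, B a d = 0 ∧ B d c = 1 := by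
      obtain ⟨d₀, hd₀, hd₀'⟩ : ∃ d, B a d = 0 ∧ B c d ≠ 0 := by
        by_contra! hall
        obtain ⟨t, ht⟩ := eq_smul_of_forall ha fun w hw => hall w hw
        exact hs t ht
      refine ⟨(B d₀ c)⁻¹ • d₀, by rw [map_smul, hd₀, smul_zero], ?_⟩
      have : B d₀ c ≠ 0 := by rw [B_swap c d₀]; exact neg_ne_zero.mpr hd₀'
      rw [map_smul, LinearMap.smul_apply, smul_eq_mul, inv_mul_cancel₀ this]
    have hK : ∀ t : F, ∃ u : F × F × F, lineP h u y = y ∧ u.1 = z * t * t := by
      intro t
      have htd : B a (t • d) = 0 := by rw [map_smul, hd, smul_zero]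
      obtain ⟨z2, hz2⟩ := hshort a (hnone a ha) (t • d) htd
      obtain ⟨zc, hzc⟩ := hshort a (hnone a ha) ((z * t) • c) (by rw [map_smul, h, smul_zero])
      refine ⟨(z * t * t, z * t, 0), ?_, rfl⟩
      set g : Sp m := tr c z * rE a ((1 : F) • c) with hg
      have hg' : g • y = y := by
        have := hmem
        change (tr a 0 * tr c z * rE a ((1 : F) • c)) • y = y at this
        rwa [tr_zero, one_mul] at this
      have e : g * (rE a (t • d) * tr a z2) * g⁻¹ * (rE a (t • d) * tr a z2) =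
          tr a (z * t * t) * tr c 0 * rE a ((z * t) • c) := by
        have h1 : B a ((1 : F) • c) = 0 := by rw [map_smul, h, smul_zero]
        have hga : ap g a = a := by simp [hg, ap_mul, rE_ap h, tr_ap, h, B_self]
        have hgu : B a (ap g (t • d)) = 0 := by rw [← hga, B_ap, htd]
        have hconj : g * (rE a (t • d) * tr a z2) * g⁻¹ = rE a (ap g (t • d)) * tr a z2 := by
          rw [show g * (rE a (t • d) * tr a z2) * g⁻¹ = (g * rE a (t • d) * g⁻¹) * (g * tr a z2 * g⁻¹) by group,
            rE_conj, tr_conj, hga]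
        rw [hconj]
        refine ext_ap fun x => ?_
        have h3 : B a ((z * t) • c) = 0 := by rw [map_smul, h, smul_zero]
        have hcd : B c d = 1 := by rw [B_swap d c, hdc, CharTwo.neg_eq]
        have hval : ap g (t • d) = t • d + (z * t) • c + t • a := by
          simp only [hg, ap_mul, rE_ap h1, tr_ap]
          funext i
          simp only [map_add, map_smul, LinearMap.add_apply, LinearMap.smul_apply, B_self, B_swap a c, h,
            B_swap a d, hd, hdc, neg_zero, smul_zero, add_zero, smul_eq_mul, Pi.add_apply, Pi.smul_apply]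
          ring
        rw [hval] at hgu ⊢
        simp only [ap_mul, rE_ap htd, rE_ap hgu, rE_ap h3, tr_ap]
        funext i
        simp only [map_add, map_smul, LinearMap.add_apply, LinearMap.smul_apply, B_self, B_swap a c, h,
          B_swap a d, hd, hdc, hcd, neg_zero, smul_zero, add_zero, smul_eq_mul, Pi.add_apply, Pi.smul_apply]
        linear_combination
          (B x a * t * d i + t * B x d * a i + t * a i * B x a + z2 * B x a * a i) *
            (CharTwo.two_eq_zero : (2 : F) = 0)
      show (tr a (z * t * t) * tr c 0 * rE a ((z * t) • c)) • y = y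
      rw [← e, mul_smul, hz2, mul_smul, mul_smul, inv_smul_eq_iff.mpr hg'.symm, hz2, hg']
    obtain ⟨u, hu, hu1⟩ := hK 1
    obtain ⟨v, hv, hv1⟩ := hK s
    have hcs' : ∀ t : F, a ≠ t • c := fun t e => by
      rcases eq_or_ne t 0 with rfl | ht
      · exact ha (by rw [e, zero_smul])
      · exact hs t⁻¹ (by rw [e, smul_smul, inv_mul_cancel₀ ht, one_smul])
    have hsame := hone c a h' (hnone c hc) hcs' (u.2.2, u.2.1, u.1) (v.2.2, v.2.1, v.1)
      (by rw [hswap', hu]) (by rw [hswap', hv]) (by rw [hu1]; simpa using hz0)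
      (by rw [hv1]; simp [hz0, hs0])
    rw [hu1, hv1, mul_one, mul_one, mul_assoc] at hsame
    have h1 : s * s = 1 := mul_left_cancel₀ hz0 (by rw [mul_one]; exact hsame.symm)
    rcases mul_self_eq_one_iff.mp h1 with e | e
    · exact hs1 e
    · exact hs1 (by rw [e, CharTwo.neg_eq])
  -- contradiction with a moved root group
  have ha0 : a₁ ≠ 0 := fun e => ha₁ (e ▸ full_zero)
  obtain ⟨c, d, hac, had, hdc⟩ := hperp a₁ ha0
  refine ha₁ fun x => ?_
  have hxd : B a₁ (x • d) = 0 := by rw [map_smul, had, smul_zero]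
  have e := rE_mul (u := c) hac hxd
  rw [map_smul, LinearMap.smul_apply, hdc, smul_eq_mul, mul_one] at e
  have h1 : (rE a₁ c * rE a₁ (x • d)) • y = y := by rw [mul_smul, hfix _ _ ha0 hxd, hfix _ _ ha0 hac]
  rw [e, mul_smul] at h1
  have h3 : B a₁ (c + x • d) = 0 := by rw [map_add, hac, hxd, add_zero]
  have h4 := hfix _ _ ha0 h3
  exact MulAction.injective (rE a₁ (c + x • d)) (h1.trans h4.symm)

end Even

end Cfsg.Agent.SpMinIndex
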