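import Cfsg.Agent.Lib.SpMinIndex.Basic

/-!
The number of images of a non-zero totally isotropic subspace, and the resulting bound for an action in
which a point stabiliser preserves such a subspace.
-/

set_option autoImplicit false
set_option linter.unusedSectionVars false
set_option maxHeartbeats 400000
set_option synthInstance.maxHeartbeats 100000

namespace Cfsg.Agent.SpMinIndex

open Matrix

variable {F : Type*} [Field F] [Fintype F] {m k : ℕ}

local notation "PS" m => (Fin m ⊕ Fin m → F)
local notation "Sp" m => Matrix.symplecticGroup (Fin m) F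
local notation "B" => FormsLib.spB _ F

/-- The images of a subspace, as finsets of vectors. -/
noncomputable def imgs (R : Submodule F (PS m)) : Finset (Finset (PS m)) := by
  classical
  letI : Fintype (Sp m) := Fintype.ofFinite _
  exact Finset.univ.image fun g : Sp m => (Finset.univ.filter fun v => v ∈ R).image (ap g)

theorem mem_imgs {R : Submodule F (PS m)} {s : Finset (PS m)} :
    s ∈ imgs R ↔ ∃ g : Sp m, ∀ v, v ∈ s ↔ ap g⁻¹ v ∈ R := by
  classical
  simp only [imgs, Finset.mem_image, Finset.mem_univ, true_and]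
  constructor
  · rintro ⟨g, rfl⟩
    refine ⟨g, fun v => ?_⟩
    simp only [Finset.mem_image, Finset.mem_filter, Finset.mem_univ, true_and]
    exact ⟨fun ⟨u, hu, e⟩ => by rwa [← e, inv_ap_ap], fun h => ⟨_, h, ap_inv_ap g v⟩⟩
  · rintro ⟨g, hg⟩
    refine ⟨g, Finset.ext fun v => ?_⟩
    simp only [Finset.mem_image, Finset.mem_filter, Finset.mem_univ, true_and]
    rw [hg]
    exact ⟨fun ⟨u, hu, e⟩ => by rwa [← e, inv_ap_ap], fun h => ⟨_, h, ap_inv_ap g v⟩⟩

/-- Every symplectic map of `a^⊥/a` lifts to one fixing `a`. -/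
theorem exists_lift (g : Sp k) :
    ∃ g' : Sp (k + 1), ap g' a0 = a0 ∧ ∀ w, ap g' (iota w) = iota (ap g w) := by
  let L : Subgroup (Sp k) :=
    { carrier := {g | ∃ g' : Sp (k + 1), ap g' a0 = a0 ∧ ∀ w, ap g' (iota w) = iota (ap g w)}
      one_mem' := ⟨1, ap_one _, fun w => by rw [ap_one, ap_one]⟩
      mul_mem' := fun {x y} ⟨x', hx0, hx⟩ ⟨y', hy0, hy⟩ =>
        ⟨x' * y', by rw [ap_mul, hy0, hx0], fun w => by rw [ap_mul, hy, hx, ap_mul]⟩
      inv_mem' := fun {x} ⟨x', hx0, hx⟩ => ⟨x'⁻¹, by
        conv_lhs => rw [← hx0, inv_ap_ap],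
        fun w => by
          conv_lhs => rw [← ap_inv_ap x w, ← hx, inv_ap_ap]⟩ }
  have : L = ⊤ := by
    rw [eq_top_iff, ← S0765.result (F := F) k, Subgroup.closure_le]
    rintro A ⟨w, c, hA⟩
    have e : A = tr w c := Subtype.ext hA
    exact ⟨tr (iota w) c, tr_iota_a0 w c, fun u => by rw [tr_iota, e]⟩
  exact (this ▸ Subgroup.mem_top g : g ∈ L)

/-- A non-zero totally isotropic subspace has at least as many images as there are points. -/
theorem imgs_card (k : ℕ) (R : Submodule F (PS (k + 1))) (hR : R ≠ ⊥)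
    (hti : ∀ u ∈ R, ∀ v ∈ R, B u v = 0) :
    Fintype.card F ^ (2 * (k + 1)) - 1 ≤ (Fintype.card F - 1) * (imgs R).card := by
  classical
  induction k with
  | zero => exact imgs_bound R hR hti (fun R' hR' hti' => absurd (Subsingleton.elim R' ⊥) hR')
  | succ k ih => exact imgs_bound R hR hti ih
where
  imgs_bound {k : ℕ} (R : Submodule F (PS (k + 1))) (hR : R ≠ ⊥) (hti : ∀ u ∈ R, ∀ v ∈ R, B u v = 0)
      (ih : ∀ R' : Submodule F (PS k), R' ≠ ⊥ → (∀ u ∈ R', ∀ v ∈ R', B u v = 0) →
        Fintype.card F ^ (2 * k) - 1 ≤ (Fintype.card F - 1) * (imgs R').card) :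
      Fintype.card F ^ (2 * (k + 1)) - 1 ≤ (Fintype.card F - 1) * (imgs R).card := by
    classical
    set q := Fintype.card F with hq
    have hq2 : 2 ≤ q := Fintype.one_lt_card
    letI : Fintype (Sp (k + 1)) := Fintype.ofFinite _
    set S := imgs R with hS
    set X := (Finset.univ : Finset (PS (k + 1))).erase 0 with hX
    -- the number of images through a vector
    set c := (S.filter fun s => a0 ∈ s).card with hc
    have hthrough : ∀ v ∈ X, (S.filter fun s => v ∈ s).card = c := by
      intro v hv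
      obtain ⟨g, hg⟩ := exists_map (F := F) a0_ne (Finset.ne_of_mem_erase hv)
      have hmove : ∀ (h : Sp (k + 1)) (s : Finset (PS (k + 1))), s ∈ S → s.image (ap h) ∈ S := by
        intro h s hs
        obtain ⟨g', hg'⟩ := mem_imgs.mp hs
        refine mem_imgs.mpr ⟨h * g', fun v => ?_⟩
        rw [Finset.mem_image, _root_.mul_inv_rev, ap_mul]
        exact ⟨fun ⟨u, hu, e⟩ => by rw [← e, inv_ap_ap]; exact (hg' u).mp hu,
          fun hv' => ⟨_, (hg' _).mpr hv', ap_inv_ap h v⟩⟩
      refine le_antisymm
        (Finset.card_le_card_of_injOn (fun s => s.image (ap g⁻¹)) (fun s hs => ?_)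
          (fun s _ t _ e => Finset.image_injective (ap_injective _) e))
        (Finset.card_le_card_of_injOn (fun s => s.image (ap g)) (fun s hs => ?_)
          (fun s _ t _ e => Finset.image_injective (ap_injective _) e))
      · obtain ⟨h1, h2⟩ := Finset.mem_filter.mp hs
        refine Finset.mem_filter.mpr ⟨hmove _ _ h1, Finset.mem_image.mpr ⟨v, h2, ?_⟩⟩
        rw [← hg, inv_ap_ap]
      · obtain ⟨h1, h2⟩ := Finset.mem_filter.mp hs
        exact Finset.mem_filter.mpr ⟨hmove _ _ h1, Finset.mem_image.mpr ⟨_, h2, hg⟩⟩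
    set r := (Finset.univ.filter fun v => v ∈ R).card with hr
    have hcard : ∀ s ∈ S, (X.filter fun v => v ∈ s).card = r - 1 := by
      intro s hs
      obtain ⟨g, hg⟩ := mem_imgs.mp hs
      have e : (X.filter fun v => v ∈ s) = s.erase 0 := by
        ext v
        simp [hX, and_comm]
      rw [e, Finset.card_erase_of_mem ((hg 0).mpr (by rw [ap_zero]; exact R.zero_mem)), hr,
        ← Finset.card_image_of_injective _ (ap_injective g⁻¹)]
      congr 2
      ext v
      simp only [Finset.mem_image, Finset.mem_filter, Finset.mem_univ, true_and, hg]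
      exact ⟨fun ⟨u, hu, e⟩ => e ▸ hu, fun h => ⟨ap g v, by rwa [inv_ap_ap], inv_ap_ap g v⟩⟩
    have hcount : S.card * (r - 1) = X.card * c := by
      have h := Finset.sum_card_bipartiteAbove_eq_sum_card_bipartiteBelow
        (s := S) (t := X) (fun s v => v ∈ s)
      simp only [Finset.bipartiteAbove, Finset.bipartiteBelow] at h
      rw [Finset.sum_congr rfl hcard, Finset.sum_congr rfl hthrough,
        Finset.sum_const, Finset.sum_const, smul_eq_mul, smul_eq_mul] at h
      exact h
    have hXcard : X.card = q ^ (2 * (k + 1)) - 1 := by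
      rw [hX, Finset.card_erase_of_mem (Finset.mem_univ _), Finset.card_univ, Fintype.card_fun,
        Fintype.card_sum, Fintype.card_fin, two_mul]
    rw [hXcard] at hcount
    obtain ⟨u₀, hu₀, hu₀'⟩ := (Submodule.ne_bot_iff _).mp hR
    have hr1 : 1 < r := Finset.one_lt_card.mpr
      ⟨u₀, Finset.mem_filter.mpr ⟨Finset.mem_univ _, hu₀⟩, 0,
        Finset.mem_filter.mpr ⟨Finset.mem_univ _, R.zero_mem⟩, hu₀'⟩
    suffices hkey : r - 1 ≤ (q - 1) * c by
      refine Nat.le_of_mul_le_mul_right ?_ (show 0 < r - 1 by omega)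
      rw [mul_assoc, hcount, ← mul_assoc, mul_comm (q - 1), mul_assoc]
      exact Nat.mul_le_mul_left _ hkey
    -- an image through the base point
    obtain ⟨g, hg⟩ := exists_map (F := F) hu₀' a0_ne
    let R1 : Submodule F (PS (k + 1)) :=
      { carrier := {v | ap g⁻¹ v ∈ R}
        zero_mem' := by show ap g⁻¹ 0 ∈ R; rw [ap_zero]; exact R.zero_mem
        add_mem' := fun {x y} hx hy => by show ap g⁻¹ (x + y) ∈ R; rw [ap_add]; exact R.add_mem hx hy
        smul_mem' := fun c x hx => by show ap g⁻¹ (c • x) ∈ R; rw [ap_smul]; exact R.smul_mem c hx }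
    have hR1 : ∀ v, v ∈ R1 ↔ ap g⁻¹ v ∈ R := fun v => Iff.rfl
    have ha0 : a0 ∈ R1 := by rw [hR1, ← hg, inv_ap_ap]; exact hu₀
    have hti1 : ∀ u ∈ R1, ∀ v ∈ R1, B u v = 0 := fun u hu v hv => by
      rw [← B_ap g⁻¹]; exact hti _ hu _ hv
    let R' : Submodule F (PS k) :=
      { carrier := {w | iota w ∈ R1}
        zero_mem' := by show iota 0 ∈ R1; rw [iota_zero]; exact R1.zero_mem
        add_mem' := fun {x y} hx hy => by show iota (x + y) ∈ R1; rw [iota_add]; exact R1.add_mem hx hy
        smul_mem' := fun c x hx => by show iota (c • x) ∈ R1; rw [iota_smul]; exact R1.smul_mem c hx }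
    have hR' : ∀ w, w ∈ R' ↔ iota w ∈ R1 := fun w => Iff.rfl
    have hti' : ∀ u ∈ R', ∀ v ∈ R', B u v = 0 := fun u hu v hv => by
      rw [← B_iota]; exact hti1 _ hu _ hv
    -- size
    set r' := (Finset.univ.filter fun w => w ∈ R').card with hr'
    have hrr : r ≤ q * r' := by
      have e : r = (Finset.univ.filter fun v => v ∈ R1).card := by
        rw [hr, ← Finset.card_image_of_injective _ (ap_injective g)]
        congr 1
        ext v
        simp only [Finset.mem_image, Finset.mem_filter, Finset.mem_univ, true_and, hR1]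
        exact ⟨fun ⟨u, hu, e⟩ => by rwa [← e, inv_ap_ap], fun h => ⟨_, h, ap_inv_ap g v⟩⟩
      rw [e, hr', hq, ← Finset.card_univ (α := F), ← Finset.card_product]
      refine (Finset.card_le_card fun x hx => ?_).trans
        (Finset.card_image_le (f := fun p : F × (PS k) => iota p.2 + p.1 • a0))
      have hx' : x ∈ R1 := (Finset.mem_filter.mp hx).2
      obtain ⟨w, z, rfl⟩ := exists_decomp (hti1 _ ha0 _ hx')
      refine Finset.mem_image.mpr ⟨(z, w), Finset.mem_product.mpr ⟨Finset.mem_univ _,
        Finset.mem_filter.mpr ⟨Finset.mem_univ _, ?_⟩⟩, rfl⟩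
      rw [hR', show iota w = iota w + z • a0 - z • a0 by abel]
      exact R1.sub_mem hx' (R1.smul_mem z ha0)
    have hc1 : 1 ≤ c := Finset.card_pos.mpr ⟨Finset.univ.filter fun v => v ∈ R1, Finset.mem_filter.mpr
      ⟨mem_imgs.mpr ⟨g, fun v => by rw [Finset.mem_filter, hR1]; simp⟩,
        Finset.mem_filter.mpr ⟨Finset.mem_univ _, ha0⟩⟩⟩
    by_cases hb : R' = ⊥
    · have : r' = 1 := by
        rw [hr', Finset.card_eq_one]
        exact ⟨0, by ext w; simp [hb]⟩
      rw [this, mul_one] at hrr
      calc r - 1 ≤ (q - 1) * 1 := by omega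
        _ ≤ (q - 1) * c := Nat.mul_le_mul_left _ hc1
    · have hIH := ih R' hb hti'
      have hr'lt : q * r' ≤ q ^ (2 * k) := by
        have h1 : r' = q ^ Module.finrank F R' := by
          rw [hr', hq, ← Module.card_eq_pow_finrank (K := F) (V := R'), ← Fintype.card_subtype]
        have h2 : Module.finrank F R' < Module.finrank F (PS k) := by
          refine Submodule.finrank_lt fun htop => ?_
          obtain ⟨w, -, hw⟩ := (Submodule.ne_bot_iff _).mp hb
          obtain ⟨v, hv⟩ := exists_partner hw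
          rw [hti' w (htop ▸ Submodule.mem_top) v (htop ▸ Submodule.mem_top)] at hv
          exact zero_ne_one hv
        rw [Module.finrank_fintype_fun_eq_card, Fintype.card_sum, Fintype.card_fin] at h2
        rw [h1, ← pow_succ']
        exact Nat.pow_le_pow_right (by omega) (by omega)
      have hinj : (imgs R').card ≤ c := by
        refine Finset.card_le_card_of_injOn
          (fun s => Finset.univ.filter fun x => ∃ w ∈ s, ∃ z : F, x = iota w + z • a0) (fun s hs => ?_) ?_
        · obtain ⟨g1, hg1⟩ := mem_imgs.mp hs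
          obtain ⟨g2, hg20, hg2⟩ := exists_lift g1
          refine Finset.mem_filter.mpr ⟨mem_imgs.mpr ⟨g2 * g, fun x => ?_⟩, Finset.mem_filter.mpr
            ⟨Finset.mem_univ _, 0, (hg1 0).mpr (by rw [ap_zero]; exact R'.zero_mem), 1,
              by rw [iota_zero, zero_add, one_smul]⟩⟩
          rw [_root_.mul_inv_rev, ap_mul, ← hR1, Finset.mem_filter]
          have hfix : ap g2⁻¹ a0 = a0 := by conv_lhs => rw [← hg20, inv_ap_ap]
          constructor
          · rintro ⟨-, w, hw, z, rfl⟩
            rw [ap_add, ap_smul, hfix]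
            refine R1.add_mem ?_ (R1.smul_mem z ha0)
            have := (hg1 w).mp hw
            rw [hR'] at this
            rwa [← ap_inv_ap g1 w, ← hg2, inv_ap_ap]
          · intro hx
            obtain ⟨w, z, hw⟩ := exists_decomp (hti1 _ ha0 _ hx)
            refine ⟨Finset.mem_univ _, ap g1 w, (hg1 _).mpr ?_, z, ?_⟩
            · rw [inv_ap_ap, hR', show iota w = ap g2⁻¹ x - z • a0 by rw [hw]; abel]
              exact R1.sub_mem hx (R1.smul_mem z ha0)
            · rw [← hg2, ← ap_inv_ap g2 x, hw, ap_add, ap_smul, hg20]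
        · intro s hs t ht e
          have key : ∀ (s t : Finset (PS k)),
              (Finset.univ.filter fun x => ∃ w ∈ s, ∃ z : F, x = iota w + z • a0) =
                (Finset.univ.filter fun x => ∃ w ∈ t, ∃ z : F, x = iota w + z • a0) → ∀ w ∈ s, w ∈ t := by
            intro s t e w hw
            have hmem : iota w ∈ Finset.univ.filter fun x => ∃ w ∈ t, ∃ z : F, x = iota w + z • a0 := by
              rw [← e]
              exact Finset.mem_filter.mpr ⟨Finset.mem_univ _, w, hw, 0, by rw [zero_smul, add_zero]⟩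
            obtain ⟨-, w', hw', z, hz⟩ := Finset.mem_filter.mp hmem
            have hz0 : z = 0 := by
              have := congrFun hz (Sum.inr 0)
              simpa [iota, a0] using this.symm
            rw [hz0, zero_smul, add_zero] at hz
            rwa [iota_injective hz]
          exact Finset.ext fun w => ⟨key s t e w, key t s e.symm w⟩
      calc r - 1 ≤ q * r' - 1 := Nat.sub_le_sub_right hrr 1
        _ ≤ q ^ (2 * k) - 1 := Nat.sub_le_sub_right hr'lt 1
        _ ≤ (q - 1) * (imgs R').card := hIH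
        _ ≤ (q - 1) * c := Nat.mul_le_mul_left _ hinj

/-- An action in which a point stabiliser preserves a non-zero totally isotropic subspace is large. -/
theorem card_ge_of_preserves {Ω : Type*} [Fintype Ω] [MulAction (Matrix.symplecticGroup (Fin (k + 1)) F) Ω]
    (y : Ω) {R : Submodule F (PS (k + 1))} (hR : R ≠ ⊥) (hti : ∀ u ∈ R, ∀ v ∈ R, B u v = 0)
    (hinv : ∀ g : Sp (k + 1), g • y = y → ∀ v ∈ R, ap g v ∈ R) :
    Fintype.card F ^ (2 * (k + 1)) - 1 ≤ (Fintype.card F - 1) * Fintype.card Ω := by
  classical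
  refine (imgs_card k R hR hti).trans (Nat.mul_le_mul_left _ ?_)
  rw [← Fintype.card_coe]
  refine Fintype.card_le_of_injective (fun s => (mem_imgs.mp s.2).choose • y) fun s t e => ?_
  apply Subtype.ext
  have key : ∀ g g' : Sp (k + 1), g • y = g' • y → ∀ v, ap g⁻¹ v ∈ R → ap g'⁻¹ v ∈ R := by
    intro g g' e v hv
    have h := hinv (g'⁻¹ * g) (by rw [mul_smul, e, inv_smul_smul]) _ hv
    rwa [ap_mul, ap_inv_ap] at h
  exact Finset.ext fun v => by
    rw [(mem_imgs.mp s.2).choose_spec v, (mem_imgs.mp t.2).choose_spec v]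
    exact ⟨key _ _ e v, key _ _ e.symm v⟩

end Cfsg.Agent.SpMinIndex
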