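import Cfsg.Agent.Lib.SpMinIndex.Regular
import Cfsg.Agent.Lib.SpMinIndex.Parabolic

/-!
The radical of a point stabiliser cannot meet every point stabiliser in the preimage of a hyperplane
without transvections in point stabilisers.
-/

set_option autoImplicit false
set_option linter.unusedSectionVars false
set_option maxHeartbeats 400000
set_option synthInstance.maxHeartbeats 100000

namespace Cfsg.Agent.SpMinIndex

open Matrix

variable {F : Type*} [Field F] [Fintype F] {k : ℕ}

local notation "PS" m => (Fin m ⊕ Fin m → F)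
local notation "Sp" m => Matrix.symplecticGroup (Fin m) F
local notation "B" => FormsLib.spB _ F

theorem plucker_one (v d r : PS 1) : B v d • r = B r d • v + B v r • d := by
  funext i
  simp only [FormsLib.spB_expand, Fin.sum_univ_one, Pi.add_apply, Pi.smul_apply, smul_eq_mul]
  rcases i with i | i <;> fin_cases i <;> simp only [Fin.zero_eta] <;> ring

variable {Ω : Type*} [MulAction (Matrix.symplecticGroup (Fin (k + 1)) F) Ω]

/-- The radical fixes exactly the hyperplane of a point. -/
theorem lines_false (hk : 1 ≤ k) (hq : 3 ≤ Fintype.card F) (hexc : ¬ (k = 1 ∧ Fintype.card F = 3))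
    [Nonempty Ω] (hfree : ∀ (y : Ω) (v : PS (k + 1)) (x : F), v ≠ 0 → tr v x • y = y → x = 0)
    (hline : ∀ y : Ω, ∃ v : PS k, v ≠ 0 ∧ (∀ u, B v u = 0 → ∃ z : F, qq u z • y = y) ∧
      (∀ (u : PS k) (z : F), qq u z • y = y → B v u = 0) ∧
      ∀ (g : Sp (k + 1)) (h : Sp k), ap g a0 = a0 → (∀ w, ap g (iota w) = iota (ap h w)) →
        (∃ s : F, ap h v = s • v) → ∃ (u : PS k) (z : F), qq u z • y = g • y) : False := by
  classical
  have hz0 : ∀ {y : Ω} {u : PS k} {z z' : F}, qq u z • y = y → qq u z' • y = y → z = z' := by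
    intro y u z z' h h'
    have h1 : tr (a0 : PS (k + 1)) z • y = tr (a0 : PS (k + 1)) z' • y := by
      refine MulAction.injective (rE (a0 : PS (k + 1)) (iota u)) ?_
      show rE a0 (iota u) • _ = rE a0 (iota u) • _
      rw [smul_smul, smul_smul]
      exact h.trans h'.symm
    have h2 : tr (a0 : PS (k + 1)) (z - z') • y = y := by
      rw [show z - z' = -z' + z by ring, tr_add, mul_smul, h1, smul_smul, ← tr_add, neg_add_cancel, tr_zero,
        one_smul]
    exact sub_eq_zero.mp (hfree y a0 _ a0_ne h2)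
  obtain ⟨y₀⟩ := ‹Nonempty Ω›
  obtain ⟨v, hv0, hvin, hvout, hvg⟩ := hline y₀
  by_cases hk2 : 2 ≤ k
  · obtain ⟨i, rfl⟩ : ∃ i, k = i + 1 + 1 := ⟨k - 2, by omega⟩
    obtain ⟨g, hg⟩ := exists_map (F := F) (u := (a0 : PS (i + 1 + 1))) a0_ne hv0
    set e : PS (i + 1 + 1) := ap g (iota a0) with he
    set w : PS (i + 1 + 1) := ap g (iota f0) with hw
    have hve : B v e = 0 := by rw [← hg, he, B_ap, B_a0_iota]
    have hvw : B v w = 0 := by rw [← hg, hw, B_ap, B_a0_iota]
    have hew : B e w = 1 := by rw [he, hw, B_ap, B_iota, B_a0_f0]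
    have hwe : B w e = -1 := by rw [B_swap e w, hew]
    by_cases h2 : (2 : F) = 0
    · haveI : CharP F 2 := CharTwo.of_one_ne_zero_of_two_eq_zero one_ne_zero h2
      have hneg : ∀ {n : ℕ} (x : PS n), -x = x := fun x => funext fun t => CharTwo.neg_eq _
      -- elements over the multiples of w
      have hkey : ∀ x t : F, qq ((x * t) • w) (x * t * t) • y₀ = y₀ := by
        intro x t
        have hte : B v (t • e) = 0 := by rw [map_smul, hve, smul_zero]
        obtain ⟨ze, hze⟩ := hvin _ hte
        obtain ⟨u, z, huz⟩ := hvg (tr (iota w) x) (tr w x) (tr_iota_a0 w x) (fun a => tr_iota w a x)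
          ⟨1, by rw [tr_ap, hvw, mul_zero, zero_smul, add_zero, one_smul]⟩
        have hX : ((qq u z)⁻¹ * tr (iota w) x) • y₀ = y₀ := by rw [mul_smul, ← huz, inv_smul_smul]
        have hT : ap (tr w x) (t • e) = t • e + (x * t) • w := by
          rw [tr_ap, map_smul, LinearMap.smul_apply, hew, smul_eq_mul, mul_one]
        have hconj : qq (t • e + (x * t) • w) ze • y₀ = y₀ := by
          have e1 : ((qq u z)⁻¹ * tr (iota w) x) * qq (t • e) ze =
              qq (t • e + (x * t) • w) ze * ((qq u z)⁻¹ * tr (iota w) x) := by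
            have hcomm : ∀ a : PS (i + 1 + 1), ∀ b : F, (qq u z)⁻¹ * qq a b = qq a b * (qq u z)⁻¹ := by
              intro a b
              rw [qq_inv, qq_mul, qq_mul, add_comm (-u) a, add_comm (-z) b]
              congr 2
              rw [B_swap (-u) a, CharTwo.neg_eq]
            rw [mul_assoc, tr_iota_qq, hT, ← mul_assoc, hcomm, mul_assoc]
          have := congrArg (· • y₀) e1
          simp only [mul_smul _ (qq (t • e) ze), hze, hX] at this
          rw [mul_smul, hX] at this
          exact this.symm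
        have h3 : (qq (t • e + (x * t) • w) ze * qq (t • e) ze) • y₀ = y₀ := by rw [mul_smul, hze, hconj]
        rw [qq_mul] at h3
        convert h3 using 3
        · rw [add_right_comm (t • e), ← two_smul F (t • e), h2, zero_smul, zero_add]
        · rw [map_add, map_smul, map_smul, LinearMap.smul_apply, B_self, map_smul, LinearMap.smul_apply, hew,
            smul_zero, smul_zero, zero_add, CharTwo.add_self_eq_zero, zero_add, smul_eq_mul, smul_eq_mul]
          ring
      obtain ⟨s, hs0, hs1⟩ : ∃ s : F, s ≠ 0 ∧ s ≠ 1 := by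
        by_contra! h
        have hsub : (Finset.univ : Finset F) ⊆ {0, 1} := fun x _ => by
          rcases eq_or_ne x 0 with rfl | hx
          · simp
          · simp [h x hx]
        have := Finset.card_le_card hsub
        rw [Finset.card_univ] at this
        have := Finset.card_le_two (a := (0 : F)) (b := 1)
        omega
      have a1 := hkey 1 1
      have a2 := hkey s⁻¹ s
      rw [one_mul, mul_one] at a1
      rw [inv_mul_cancel₀ hs0, one_mul] at a2
      exact hs1 (hz0 a2 a1)
    · obtain ⟨ze, hze⟩ := hvin e hve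
      obtain ⟨zw, hzw⟩ := hvin w hvw
      have h3 : (qq e ze * qq w zw) • y₀ = y₀ := by rw [mul_smul, hzw, hze]
      have h4 : (qq w zw * qq e ze) • y₀ = y₀ := by rw [mul_smul, hze, hzw]
      rw [qq_mul] at h3 h4
      rw [add_comm w e] at h4
      have := hz0 h3 h4
      rw [hwe, hew] at this
      exact h2 (by linear_combination -this)
  -- the four-dimensional case
  obtain rfl : k = 1 := by omega
  have hq5 : Fintype.card F ≠ 3 := fun h => hexc ⟨rfl, h⟩
  obtain ⟨d, hd⟩ := exists_partner hv0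
  have hdv : B d v = -1 := by rw [B_swap v d, hd]
  have hdec : ∀ u : PS 1, u = B u d • v + B v u • d := fun u => by rw [← plucker_one, hd, one_smul]
  have hperp : ∀ u : PS 1, B v u = 0 → u = B u d • v := fun u h => by
    conv_lhs => rw [hdec u, h, zero_smul, add_zero]
  have hγ : ∀ γ : F, B v (γ • v) = 0 := fun γ => by rw [map_smul, B_self, smul_zero]
  choose z hz using fun γ => hvin (γ • v) (hγ γ)
  have hBγ : ∀ γ t : F, B (t • v) (γ • v) = 0 := fun γ t => by
    rw [map_smul, map_smul, LinearMap.smul_apply, B_self, smul_zero, smul_zero]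
  have hzadd : ∀ γ γ', z (γ + γ') = z γ + z γ' := fun γ γ' => hz0 (hz (γ + γ')) (by
    have h := qq_mul (γ • v) (γ' • v) (z γ) (z γ')
    rw [hBγ, add_zero, ← add_smul] at h
    rw [← h, mul_smul, hz, hz])
  -- torus elements
  have htorus : ∀ s : F, s ≠ 0 → ∃ (g : Sp (1 + 1)) (h : Sp 1),
      ap g a0 = a0 ∧ (∀ a, ap g (iota a) = iota (ap h a)) ∧ ap h v = s • v ∧ ap h d = s⁻¹ • d := by
    intro s hs
    let T : (PS 1) →ₗ[F] (PS 1) :=
      LinearMap.id + (s - 1) • ((B).flip d).smulRight v + (s⁻¹ - 1) • ((B) v).smulRight d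
    have hT : ∀ a, T a = a + (s - 1) • B a d • v + (s⁻¹ - 1) • B v a • d := fun a => by simp [T]
    have hTiso : ∀ a b, B (T a) (T b) = B a b := fun a b => by
      simp only [hT, map_add, map_smul, LinearMap.add_apply, LinearMap.smul_apply, smul_eq_mul, B_self, hd, hdv,
        B_swap b v, B_swap b d, B_swap v a]
      field_simp
      ring
    obtain ⟨g, hg0, hg⟩ := exists_lift (ofMap T hTiso)
    refine ⟨g, ofMap T hTiso, hg0, hg, ?_, ?_⟩
    · rw [ofMap_ap, hT, hd, B_self, zero_smul, smul_zero, add_zero, one_smul, sub_smul, one_smul,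
        add_sub_cancel]
    · rw [ofMap_ap, hT, hd, B_self, zero_smul, smul_zero, add_zero, one_smul, sub_smul, one_smul,
        add_sub_cancel]
  -- conjugation by a torus element fixing the point
  have hlift : ∀ (y : Ω) (g : Sp (1 + 1)) (h : Sp 1),
      (∃ u z', qq u z' • y = g⁻¹ • y) → ∃ u z', (g * qq u z') • y = y := fun y g _ ⟨u, z', h⟩ =>
    ⟨u, z', by rw [mul_smul, h, smul_inv_smul]⟩
  have hconj : ∀ s : F, s ≠ 0 → ∃ κ : F, ((2 : F) = 0 → κ = 0) ∧ ∀ γ, z (s * γ) = z γ + κ * γ := by
    intro s hs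
    obtain ⟨g, h, hg0, hgh, hhv, -⟩ := htorus s hs
    obtain ⟨u, z', huz⟩ := hvg g h hg0 hgh ⟨s, hhv⟩
    refine ⟨2 * (B u v * s), fun e => by rw [e, zero_mul], fun γ => ?_⟩
    have hX : ((qq u z')⁻¹ * g) • y₀ = y₀ := by rw [mul_smul, ← huz, inv_smul_smul]
    have e1 : ((qq u z')⁻¹ * g) * qq (γ • v) (z γ) =
        qq ((s * γ) • v) (z γ + 2 * (B u v * s) * γ) * ((qq u z')⁻¹ * g) := by
      rw [mul_assoc, qq_conj hg0 hgh, ap_smul, hhv, smul_smul, mul_comm γ s, ← mul_assoc, ← mul_assoc, qq_inv,
        qq_mul, qq_mul, add_comm (-u)]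
      congr 2
      simp only [map_neg, map_smul, LinearMap.neg_apply, LinearMap.smul_apply, smul_eq_mul, B_swap u v]
      ring
    have h5 : qq ((s * γ) • v) (z γ + 2 * (B u v * s) * γ) • y₀ = y₀ := by
      have := congrArg (· • y₀) e1
      simp only [mul_smul _ (qq (γ • v) (z γ)), hz] at this
      rw [hX, mul_smul, hX] at this
      exact this.symm
    exact hz0 (hz (s * γ)) h5
  -- move the point so that the radical part is trivial
  obtain ⟨y, hy⟩ : ∃ y : Ω, ∀ γ : F, qq (γ • v) 0 • y = y := by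
    by_cases h2 : (2 : F) = 0
    · refine ⟨y₀, fun γ => ?_⟩
      have hconst : ∀ γ, γ ≠ 0 → z γ = z 1 := fun γ hγ => by
        obtain ⟨κ, hκ, h⟩ := hconj γ hγ
        have := h 1
        rwa [mul_one, hκ h2, zero_mul, add_zero] at this
      have hz00 : z 0 = 0 := by
        have := hzadd 0 0
        rw [add_zero] at this
        exact left_eq_add.mp this
      have hz1 : z 1 = 0 := by
        obtain ⟨s, hs0, hs1⟩ : ∃ s : F, s ≠ 0 ∧ s ≠ -1 := by
          by_contra! h
          have hsub : (Finset.univ : Finset F) ⊆ {0, -1} := fun x _ => by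
            rcases eq_or_ne x 0 with rfl | hx
            · simp
            · simp [h x hx]
          have := Finset.card_le_card hsub
          rw [Finset.card_univ] at this
          have := Finset.card_le_two (a := (0 : F)) (b := -1)
          omega
        have := hzadd s 1
        rw [hconst _ hs0, hconst (s + 1) (fun e => hs1 (eq_neg_of_add_eq_zero_left e))] at this
        exact add_eq_right.mp this.symm
      have : z γ = 0 := by
        rcases eq_or_ne γ 0 with rfl | hγ0
        · exact hz00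
        · rw [hconst γ hγ0, hz1]
      rw [← this]; exact hz γ
    · obtain ⟨κ, -, hκ⟩ := hconj (-1) (neg_ne_zero.mpr one_ne_zero)
      have hneg : ∀ γ, z (-γ) = -z γ := fun γ => by
        have h1 := hzadd γ (-γ)
        have h2' := hzadd 0 0
        rw [add_zero] at h2'
        rw [add_neg_cancel, left_eq_add.mp h2'] at h1
        exact eq_neg_of_add_eq_zero_right h1.symm
      set σ := κ / (2 * 2) with hσ
      refine ⟨qq (σ • d) 0 • y₀, fun γ => ?_⟩
      have hlin : 2 * z γ = -(κ * γ) := by
        have := hκ γ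
        rw [neg_one_mul, hneg] at this
        linear_combination -this
      rw [smul_smul]
      have e : qq (γ • v) 0 * qq (σ • d) 0 = qq (σ • d) 0 * qq (γ • v) (z γ) := by
        rw [qq_mul, qq_mul, add_comm (γ • v)]
        congr 1
        simp only [map_smul, LinearMap.smul_apply, smul_eq_mul, hd, hdv]
        rw [hσ]
        field_simp
        linear_combination -2 * hlin
      rw [e, mul_smul, hz]
  obtain ⟨v', hv'0, hv'in, hv'out, hv'g⟩ := hline y
  obtain ⟨c, hc⟩ : ∃ c : F, v' = c • v := ⟨B v' d, by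
    have h1 := hv'out _ _ (hy 1)
    rw [one_smul] at h1
    exact hperp v' (by rw [B_swap v' v, h1, neg_zero])⟩
  have hc0 : c ≠ 0 := fun h => hv'0 (by rw [hc, h, zero_smul])
  have hyz : ∀ {γ z' : F}, qq (γ • v) z' • y = y → z' = 0 := fun h => hz0 h (hy _)
  -- elements over the stabiliser of the line
  have hover : ∀ (g : Sp (1 + 1)) (h : Sp 1) (r : F), ap g a0 = a0 → (∀ a, ap g (iota a) = iota (ap h a)) →
      ap h v = r • v → ∃ lam z' : F, (g * qq (lam • d) z') • y = y := by
    intro g h r hg0 hgh hhv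
    have hr : r ≠ 0 := fun e => hv0 (ap_injective h (by rw [hhv, e, zero_smul, ap_zero]))
    obtain ⟨u, z', hu⟩ := hv'g g⁻¹ h⁻¹ (by conv_lhs => rw [← hg0, inv_ap_ap]) (fun a => by
        conv_lhs => rw [← ap_inv_ap h a, ← hgh, inv_ap_ap]) ⟨r⁻¹, by
          have hiv : ap h⁻¹ v = r⁻¹ • v := ap_injective h (by
            rw [ap_inv_ap, ap_smul, hhv, smul_smul, inv_mul_cancel₀ hr, one_smul])
          rw [hc, ap_smul, hiv, smul_comm]⟩
    obtain ⟨u', z'', hu'⟩ := hlift y g h ⟨u, z', hu⟩
    refine ⟨B v u', z'' + B (-(B u' d • v)) u', ?_⟩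
    have e : qq u' z'' * qq (-(B u' d • v)) 0 = qq (B v u' • d) (z'' + B (-(B u' d • v)) u') := by
      rw [qq_mul, add_zero]
      congr 1
      conv_lhs => arg 1; rw [hdec u']
      abel
    rw [← e, mul_smul, mul_smul, ← neg_smul, hy, ← mul_smul, hu']
  by_cases h2 : (2 : F) = 0
  · haveI : CharP F 2 := CharTwo.of_one_ne_zero_of_two_eq_zero one_ne_zero h2
    obtain ⟨lam, z₁, hl⟩ := hover (tr (iota v) 1) (tr v 1) 1 (tr_iota_a0 v 1) (fun a => tr_iota v a 1)
      (by rw [tr_ap, B_self, mul_zero, zero_smul, add_zero, one_smul])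
    have hgg : tr (iota v : PS (1 + 1)) (1 : F) * tr (iota v) 1 = 1 := by
      rw [← tr_add, CharTwo.add_self_eq_zero (1 : F), tr_zero]
    have hT : ap (tr v 1) (lam • d) = lam • d + lam • v := by
      rw [tr_ap, map_smul, LinearMap.smul_apply, hdv, CharTwo.neg_eq, smul_eq_mul, mul_one, one_mul]
    have hlam : lam = 0 := by
      have e : qq (lam • v) (lam * lam) = (tr (iota v) 1 * qq (lam • d) z₁) * (tr (iota v) 1 * qq (lam • d) z₁) := by
        rw [← mul_assoc, tr_iota_qq, hT, mul_assoc (qq _ z₁), hgg, mul_one, qq_mul]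
        congr 1
        · rw [add_right_comm, ← two_smul F (lam • d), h2, zero_smul, zero_add]
        · simp only [map_add, map_smul, LinearMap.smul_apply, smul_eq_mul, B_self, hdv]
          linear_combination (-z₁ + lam * lam) * h2
      have h6 : qq (lam • v) (lam * lam) • y = y := by rw [e, mul_smul, hl, hl]
      exact mul_self_eq_zero.mp (hyz h6)
    rw [hlam, zero_smul] at hl
    obtain ⟨σ, hσ⟩ : ∃ σ : F, σ * σ = z₁ := by
      obtain ⟨s, hs⟩ := FiniteField.isSquare_of_char_two (F := F) (ringChar.eq_iff.mpr inferInstance) z₁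
      exact ⟨s, hs.symm⟩
    have h7 : (tr (iota v) 1 * qq (σ • v) 0) • qq (σ • d) 0 • y = qq (σ • d) 0 • y := by
      have e : tr (iota v) 1 * qq (σ • v) 0 * qq (σ • d) 0 = qq (σ • d) 0 * (tr (iota v) 1 * qq (0 : PS 1) z₁) := by
        have hconj' : qq (σ • d) 0 * tr (iota v) 1 = tr (iota v) 1 * qq (ap (tr v 1) (σ • d)) (0 : F) := by
          rw [tr_iota_qq, ← ap_mul, ← tr_add, CharTwo.add_self_eq_zero (1 : F), tr_zero, ap_one]
        rw [← mul_assoc, hconj', mul_assoc, mul_assoc, qq_mul, qq_mul]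
        congr 2
        · rw [tr_ap, map_smul, LinearMap.smul_apply, hdv, CharTwo.neg_eq, smul_eq_mul, mul_one, one_mul]
          abel
        · simp only [map_smul, map_zero, LinearMap.zero_apply, LinearMap.smul_apply, smul_eq_mul, hdv]
          linear_combination hσ - σ * σ * h2
      rw [smul_smul, e, mul_smul, hl]
    have hcomm : qq (σ • v) 0 * qq (σ • d) (0 : F) = qq (σ • d) 0 * qq (σ • v) (0 : F) * tr a0 (2 * (σ * σ)) := by
      rw [h2, zero_mul, tr_zero, mul_one, qq_mul, qq_mul, add_comm (σ • v)]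
      congr 1
      simp only [map_smul, LinearMap.smul_apply, smul_eq_mul, hd, hdv, CharTwo.neg_eq]
    rw [mul_smul, smul_smul (qq (σ • v) 0), hcomm, h2, zero_mul, tr_zero, mul_one, mul_smul, hy] at h7
    exact one_ne_zero (hfree _ _ 1 (iota_ne_zero hv0) h7)
  -- odd characteristic
  have hlam : ∀ (g : Sp (1 + 1)) (h : Sp 1) (r : F), ap g a0 = a0 → (∀ a, ap g (iota a) = iota (ap h a)) →
      ap h v = r • v → ∃ z' : F, (g * tr a0 z') • y = y := by
    intro g h r hg0 hgh hhv
    obtain ⟨lam, z', hl⟩ := hover g h r hg0 hgh hhv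
    refine ⟨z', ?_⟩
    suffices hl0 : lam = 0 by
      rw [hl0, zero_smul, qq, iota_zero, rE_zero, one_mul] at hl
      exact hl
    have e : (g * qq (lam • d) z') * qq (v : PS 1) 0 =
        qq (r • v) (2 * lam) * (g * qq (lam • d) z') := by
      have e1 : qq (lam • d) z' * qq v (0 : F) = qq v (2 * lam) * qq (lam • d) z' := by
        rw [qq_mul, qq_mul, add_comm (lam • d)]
        congr 1
        simp only [map_smul, LinearMap.smul_apply, smul_eq_mul, hd, hdv]
        ring
      rw [mul_assoc, e1, ← mul_assoc, qq_conj hg0 hgh, hhv, mul_assoc]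
    have hy1 : qq v (0 : F) • y = y := by have := hy 1; rwa [one_smul] at this
    have h5 : qq (r • v) (2 * lam) • y = y := by
      have := congrArg (· • y) e
      simp only [mul_smul _ (qq v (0 : F)), hy1] at this
      rw [hl, mul_smul, hl] at this
      exact this.symm
    exact (mul_eq_zero.mp (hyz h5)).resolve_left h2
  choose Z hZ using fun x : F => hlam (tr (iota v) x) (tr v x) 1 (tr_iota_a0 v x) (fun a => tr_iota v a x)
    (by rw [tr_ap, B_self, mul_zero, zero_smul, add_zero, one_smul])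
  have hu : ∀ {x z' : F}, (tr (iota v) x * tr a0 z') • y = y → Z x = z' := by
    intro x z' h
    have h1 : tr (a0 : PS (1 + 1)) (Z x) • y = tr (a0 : PS (1 + 1)) z' • y :=
      MulAction.injective (tr (iota v) x) (by
        show tr (iota v) x • _ = tr (iota v) x • _
        rw [smul_smul, smul_smul, hZ, h])
    have h3 : tr (a0 : PS (1 + 1)) (Z x - z') • y = y := by
      rw [show Z x - z' = -z' + Z x by ring, tr_add, mul_smul, h1, smul_smul, ← tr_add, neg_add_cancel,
        tr_zero, one_smul]
    exact sub_eq_zero.mp (hfree y a0 _ a0_ne h3)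
  have hcf : ∀ x z' : F, tr a0 z' * tr (iota v) x = tr (iota v) x * tr (a0 : PS (1 + 1)) z' :=
    fun x z' => (comm_of_fix (tr_iota_a0 v x) z').symm
  have hZadd : ∀ x x', Z (x + x') = Z x + Z x' := fun x x' => hu (by
    rw [tr_add, tr_add, mul_assoc, ← mul_assoc (tr (iota v) x'), ← hcf, mul_assoc, ← mul_assoc, mul_smul,
      hZ, hZ])
  obtain ⟨s, hs0, hs1, hs2⟩ : ∃ s : F, s ≠ 0 ∧ s ≠ 1 ∧ s ≠ -1 := by
    by_contra! h
    have hsub : (Finset.univ : Finset F) ⊆ {0, 1, -1} := fun x _ => by
      rcases eq_or_ne x 0 with rfl | h0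
      · simp
      rcases eq_or_ne x 1 with rfl | h1
      · simp
      simp [h x h0 h1]
    have := Finset.card_le_card hsub
    rw [Finset.card_univ] at this
    have := Finset.card_le_three (a := (0 : F)) (b := 1) (c := -1)
    omega
  have hss : s * s - 1 ≠ 0 := fun e => by
    rcases mul_self_eq_one_iff.mp (sub_eq_zero.mp e) with e | e
    · exact hs1 e
    · exact hs2 e
  obtain ⟨g, h, hg0, hgh, hhv, -⟩ := htorus s hs0
  obtain ⟨zs, hzs⟩ := hlam g h s hg0 hgh hhv
  have hsq : ∀ x, Z (s * s * x) = Z x := fun x => hu (by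
    have e : tr (iota v) (s * s * x) * tr a0 (Z x) =
        (g * tr a0 zs) * (tr (iota v) x * tr a0 (Z x)) * (g * tr a0 zs)⁻¹ := by
      have h5 : Commute (tr (a0 : PS (1 + 1)) zs) (tr (iota v) x * tr a0 (Z x)) :=
        Commute.mul_right (hcf x zs) (tr_commute (B_self a0) _ _)
      rw [show g * tr a0 zs * (tr (iota v) x * tr a0 (Z x)) * (g * tr a0 zs)⁻¹ =
          g * (tr a0 zs * (tr (iota v) x * tr a0 (Z x)) * (tr a0 zs)⁻¹) * g⁻¹ by group, h5.eq,
        mul_inv_cancel_right, show g * (tr (iota v) x * tr a0 (Z x)) * g⁻¹ =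
          g * tr (iota v) x * g⁻¹ * (g * tr a0 (Z x) * g⁻¹) by group, tr_conj, tr_conj, hg0, hgh, hhv,
        iota_smul, tr_smul]
    rw [e, mul_smul, mul_smul, inv_smul_eq_iff.mpr hzs.symm, hZ, hzs])
  have hZ0 : Z 1 = 0 := by
    have h1 := hsq (1 / (s * s - 1))
    rw [show s * s * (1 / (s * s - 1)) = 1 + 1 / (s * s - 1) by
      linear_combination div_mul_cancel₀ 1 hss, hZadd] at h1
    exact add_eq_right.mp h1
  have := hZ 1
  rw [hZ0, tr_zero, mul_one] at this
  exact one_ne_zero (hfree y _ 1 (iota_ne_zero hv0) this)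

end Cfsg.Agent.SpMinIndex
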