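import Cfsg.Agent.Lib.SpMinIndex.Orbits

/-!
In characteristic two, a root group orbit invariant under the radical has many translates.
-/

set_option autoImplicit false
set_option linter.unusedSectionVars false
set_option maxHeartbeats 400000
set_option synthInstance.maxHeartbeats 100000

namespace Cfsg.Agent.SpMinIndex

open Matrix

variable {F : Type*} [Field F] [Fintype F] [CharP F 2] {k : ℕ}

local notation "PS" m => (Fin m ⊕ Fin m → F)
local notation "Sp" m => Matrix.symplecticGroup (Fin m) F
local notation "B" => FormsLib.spB _ F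

variable {Ω : Type*} [Fintype Ω] [DecidableEq Ω] [MulAction (Matrix.symplecticGroup (Fin (k + 1)) F) Ω]

/-- The radical element over `u` with central part `z` fixes the point. -/
def Th (y : Ω) (u : PS k) (z : F) : Prop :=
  (rE (a0 : PS (k + 1)) (iota u) * tr (a0 : PS (k + 1)) z) • y = y

open Classical in
theorem fixed_count (hq : 3 ≤ Fintype.card F) {α : F} (hα : α ≠ 0) {y : Ω} (hy : Hits (k := k) α y)
    (hmov : ¬ Mov (F := F) (k := k) y) :
    Fintype.card F ^ (2 * k) - 1 + (Fintype.card F - 1) ≤ (Fintype.card F - 1) *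
      (Finset.univ.filter fun s : Zs k Ω α => ∀ w, wAct α w s = s).card := by
  have hsq : ∀ x : F, ∃ s, s * s = x := fun x => by
    obtain ⟨c, hc⟩ := FiniteField.isSquare_of_char_two (F := F) (ringChar.eq_iff.mpr inferInstance) x
    exact ⟨c, hc.symm⟩
  have hex : ∀ u : PS k, ∃ z : F, Th y u z := by
    intro u
    simp only [Mov, not_exists, not_forall, not_not] at hmov
    obtain ⟨z, hz⟩ := hmov u
    refine ⟨z, ?_⟩
    show (rE a0 (iota u) * tr a0 z) • y = y
    rw [← (rE_tr_commute (B_a0_iota u) z).eq, mul_smul, hz, smul_smul, ← tr_add, CharTwo.add_self_eq_zero,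
      tr_zero, one_smul]
  have huni : ∀ {y' : Ω}, Hits (k := k) α y' → ∀ {u : PS k} {z z' : F}, Th y' u z → Th y' u z' →
      AbelianProj.psi F (α * z) = AbelianProj.psi F (α * z') := by
    intro y' hy' u z z' h h'
    have h1 : tr (a0 : PS (k + 1)) z • y' = tr (a0 : PS (k + 1)) z' • y' := by
      refine MulAction.injective (rE (a0 : PS (k + 1)) (iota u)) ?_
      show rE a0 (iota u) • _ = rE a0 (iota u) • _
      rw [smul_smul, smul_smul, h, h']
    have h2 := hy'.2 (z - z') (by
      show tr (a0 : PS (k + 1)) (z - z') • y' = y'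
      rw [sub_eq_add_neg, add_comm z, tr_add, mul_smul, h1, smul_smul, ← tr_add, neg_add_cancel, tr_zero,
        one_smul])
    rw [wtF_apply, mul_sub, AddChar.map_sub_eq_div] at h2
    exact (div_eq_one_iff_eq ((AbelianProj.psi F).val_isUnit _).ne_zero).mp h2
  have hadd : ∀ {u v : PS k} {z z' : F}, Th y u z → Th y v z' → Th y (u + v) (z + z' + B v u) := by
    intro u v z z' h h'
    show (rE a0 (iota (u + v)) * tr a0 (z + z' + B v u)) • y = y
    have e : rE a0 (iota u) * tr a0 z * (rE a0 (iota v) * tr a0 z') =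
        rE a0 (iota (u + v)) * tr (a0 : PS (k + 1)) (z + z' + B v u) := by
      rw [iota_add, mul_assoc, ← mul_assoc (tr a0 z), (rE_tr_commute (B_a0_iota v) z).eq, ← mul_assoc,
        ← mul_assoc, rE_mul (B_a0_iota u) (B_a0_iota v), B_iota, mul_assoc, mul_assoc, ← tr_add, ← tr_add]
      congr 2
      ring
    rw [← e, mul_smul, h', h]
  let T : (PS k) → (PS k) → PS k := fun w u => ap (tr w (1 : F)) u
  have hTT : ∀ w u, T w (T w u) = u := fun w u => by
    show ap (tr w 1) (ap (tr w 1) u) = u
    rw [← ap_mul, ← tr_add, CharTwo.add_self_eq_zero, tr_zero, ap_one]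
  have hTu : ∀ w u, T w u = u + B u w • w := fun w u => by
    show ap (tr w 1) u = _
    rw [tr_ap, one_mul]
  have hTh : ∀ {y' : Ω} {w u : PS k} {z : F}, Th y' u z → Th (tr (iota w : PS (k + 1)) (1 : F) • y') (T w u) z := by
    intro y' w u z h
    show (rE a0 (iota (ap (tr w 1) u)) * tr a0 z) • tr (iota w) 1 • y' = _
    rw [smul_smul, mul_assoc, ← comm_of_fix (tr_iota_a0 w 1), ← mul_assoc,
      ← rE_iota_conj (tr_iota_a0 w 1) (fun v => tr_iota w v 1), mul_assoc, mul_smul, h]
  have hgg : ∀ (w : PS k) (y' : Ω),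
      tr (iota w : PS (k + 1)) (1 : F) • tr (iota w : PS (k + 1)) (1 : F) • y' = y' := fun w y' => by
    rw [smul_smul, ← tr_add, CharTwo.add_self_eq_zero, tr_zero, one_smul]
  let f : (PS k) → Zs k Ω α := fun w => mkZ (hits_smul (tr_iota_a0 w 1) hy)
  have hffix : ∀ w v, wAct α v (f w) = f w := by
    intro w v
    rw [wAct, permZ_mk, mkZ_eq]
    obtain ⟨z, hz⟩ := hex (T w v)
    have h := hTh (w := w) hz
    rw [hTT] at h
    refine ⟨z, ?_⟩
    conv_rhs => rw [← h]
    rw [smul_smul, smul_smul, smul_smul, (rE_tr_commute (B_a0_iota v) z).eq]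
  -- equal classes have equal central parts
  have hclass : ∀ {w w' v : PS k} {z z' : F}, f w = f w' → Th y (T w v) z → Th y (T w' v) z' →
      AbelianProj.psi F (α * z) = AbelianProj.psi F (α * z') := by
    intro w w' v z z' e h h'
    obtain ⟨x, hx⟩ := mkZ_eq.mp e
    have h1 := hTh (w := w) h
    rw [hTT] at h1
    have h2 : Th (tr (iota w' : PS (k + 1)) (1 : F) • y) v z := by
      rw [← hx]
      show (rE a0 (iota v) * tr a0 z) • tr a0 x • _ = tr a0 x • _
      have hga : ap (rE (a0 : PS (k + 1)) (iota v) * tr (a0 : PS (k + 1)) z) a0 = a0 := by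
        rw [ap_mul, tr_ap, B_self, mul_zero, zero_smul, add_zero, rE_iota_a0]
      rw [smul_comm_fix hga, h1]
    have h3 := hTh (w := w') h2
    rw [hgg] at h3
    exact huni hy h3 h'
  -- a vector moving the class on each line
  let good : (PS k) → Prop := fun w => ∃ u z z',
    Th y u z ∧ Th y (T w u) z' ∧ AbelianProj.psi F (α * z) ≠ AbelianProj.psi F (α * z')
  have hgood : ∀ w, w ≠ 0 → ∀ s : F, s ≠ 0 → s ≠ 1 → good w ∨ good (s • w) := by
    intro w hw s hs0 hs1
    by_contra! hbad
    obtain ⟨hb1, hb2⟩ := hbad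
    simp only [good, not_exists, not_and, not_not] at hb1 hb2
    obtain ⟨e, he⟩ := exists_partner hw
    have hew : B e w = 1 := by rw [B_swap w e, he, CharTwo.neg_eq]
    obtain ⟨x, hx⟩ := exists_psi_ne_one hα
    have hs2 : 1 + s * s ≠ 0 := fun h => hs1 (by
      have : (s + 1) * (s + 1) = 0 := by linear_combination h + s * (CharTwo.two_eq_zero : (2 : F) = 0)
      rw [mul_self_eq_zero, CharTwo.add_eq_zero] at this
      exact this)
    obtain ⟨β, hβ⟩ := hsq (x / (s * s) / (1 + s * s))
    -- the two translates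
    obtain ⟨z, hz⟩ := hex (β • e)
    obtain ⟨z₁, hz₁⟩ := hex ((β * s * s) • e)
    obtain ⟨t, ht⟩ := hex ((β * s * s) • w)
    have h1 : Th y (T w ((β * s * s) • e)) (z₁ + t + B ((β * s * s) • w) ((β * s * s) • e)) := by
      have := hadd hz₁ ht
      rwa [hTu, map_smul, LinearMap.smul_apply, hew, smul_eq_mul, mul_one]
    have h2 : Th y (T (s • w) (β • e)) (z + t + B ((β * s * s) • w) (β • e)) := by
      have := hadd hz ht
      rwa [hTu, map_smul, map_smul, LinearMap.smul_apply, hew, smul_smul, smul_eq_mul, smul_eq_mul, mul_one,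
        show s * β * s = β * s * s by ring]
    have q1 := hb1 _ _ _ hz₁ h1
    have q2 := hb2 _ _ _ hz h2
    simp only [mul_add, AddChar.map_add_eq_mul, map_smul, LinearMap.smul_apply, he, smul_eq_mul, mul_one]
      at q1 q2
    have hne : ∀ a : F, AbelianProj.psi F a ≠ 0 := fun a => ((AbelianProj.psi F).val_isUnit a).ne_zero
    have r1 : AbelianProj.psi F (α * t) * AbelianProj.psi F (α * (β * s * s * (β * s * s))) = 1 :=
      mul_left_cancel₀ (hne (α * z₁)) (by rw [mul_one, ← mul_assoc]; exact q1.symm)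
    have r2 : AbelianProj.psi F (α * t) * AbelianProj.psi F (α * (β * (β * s * s))) = 1 :=
      mul_left_cancel₀ (hne (α * z)) (by rw [mul_one, ← mul_assoc]; exact q2.symm)
    rw [← r1] at r2
    have r3 := mul_left_cancel₀ (hne _) r2
    refine hx ?_
    have hx' : β * β * (1 + s * s) * (s * s) = x := by
      rw [hβ, div_mul_cancel₀ _ hs2, div_mul_cancel₀ _ (mul_ne_zero hs0 hs0)]
    rw [show α * x = α * (β * (β * s * s)) + α * (β * s * s * (β * s * s)) by
        linear_combination -α * hx',
      AddChar.map_add_eq_mul, r3, ← AddChar.map_add_eq_mul, CharTwo.add_self_eq_zero,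
      AddChar.map_zero_eq_one]
  obtain ⟨s, hs0, hs1⟩ : ∃ s : F, s ≠ 0 ∧ s ≠ 1 := by
    by_contra! h
    have hsub : (Finset.univ : Finset F) ⊆ {0, 1} := fun x _ => by
      rcases eq_or_ne x 0 with rfl | hx
      · simp
      · simp [h x hx]
    have := Finset.card_le_card hsub
    rw [Finset.card_univ] at this
    have := Finset.card_le_two (a := (0 : F)) (b := 1)
    omega
  let h : (PS k) → PS k := fun w => if good w then w else s • w
  have hh : ∀ w, w ≠ 0 → good (h w) := fun w hw => by
    by_cases hg : good w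
    · simpa [h, hg] using hg
    · have := (hgood w hw s hs0 hs1).resolve_left hg
      simpa [h, hg] using this
  set X := (Finset.univ : Finset (PS k)).erase 0 with hX
  have hf0 : ∀ w, good w → f w ≠ f 0 := by
    rintro w ⟨u, z, z', h1, h2, hne⟩ e
    exact hne (hclass e h2 (show Th y (T 0 u) z by rwa [hTu, smul_zero, add_zero])).symm
  have hline : ∀ w w', good w → f w = f w' → ∃ c : F, w' = c • w := by
    intro w w' ⟨u, z, z', h1, h2, hne⟩ e
    by_contra! hnot
    have hw0 : w ≠ 0 := fun hw => hne (huni hy h1 (by rwa [hTu, hw, smul_zero, add_zero] at h2))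
    obtain ⟨u₀, hu0, hu0'⟩ : ∃ u₀, B w u₀ = 0 ∧ B w' u₀ ≠ 0 := by
      by_contra! hall
      obtain ⟨c, hc⟩ := eq_smul_of_forall hw0 hall
      exact hnot c hc
    have hsw : ∀ a b : PS k, B a b = B b a := fun a b => by rw [B_swap b a, CharTwo.neg_eq]
    set c : F := B u w' / B w' u₀
    obtain ⟨t, ht⟩ := hex (c • u₀)
    have h3 := hadd h1 ht
    have h4 := hadd h2 ht
    have hT2 : T w (u + c • u₀) = T w u + c • u₀ := by
      rw [hTu, hTu, map_add, LinearMap.add_apply, map_smul, LinearMap.smul_apply, hsw u₀ w, hu0, smul_zero,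
        add_zero]
      abel
    have hT3 : T w' (u + c • u₀) = u + c • u₀ := by
      rw [hTu, map_add, LinearMap.add_apply, map_smul, LinearMap.smul_apply, hsw u₀ w', smul_eq_mul,
        div_mul_cancel₀ _ hu0', CharTwo.add_self_eq_zero, zero_smul, add_zero]
    rw [← hT2] at h4
    rw [← hT3] at h3
    have h5 := hclass e h4 h3
    have hB : B (c • u₀) (T w u) = B (c • u₀) u := by
      rw [hTu, map_add, map_smul _ (B u w) w, map_smul, LinearMap.smul_apply, LinearMap.smul_apply, hsw u₀ w,
        hu0, smul_zero, smul_zero, add_zero]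
    rw [hB, mul_add, mul_add, mul_add, mul_add, AddChar.map_add_eq_mul, AddChar.map_add_eq_mul,
      AddChar.map_add_eq_mul, AddChar.map_add_eq_mul] at h5
    have hne' : ∀ a : F, AbelianProj.psi F a ≠ 0 := fun a => ((AbelianProj.psi F).val_isUnit a).ne_zero
    exact hne (mul_right_cancel₀ (hne' _) (mul_right_cancel₀ (hne' _) h5.symm))
  have hfib : X.card ≤ (Fintype.card F - 1) * (X.image (f ∘ h)).card := by
    refine Finset.card_le_mul_card_image _ _ fun o ho => ?_
    obtain ⟨w₁, hw₁, rfl⟩ := Finset.mem_image.mp ho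
    have hw₁0 := Finset.ne_of_mem_erase hw₁
    refine (Finset.card_le_card (t := ((Finset.univ : Finset F).erase 0).image fun c => c • w₁) fun w hw => ?_).trans
      (Finset.card_image_le.trans (by rw [Finset.card_erase_of_mem (Finset.mem_univ _), Finset.card_univ]))
    obtain ⟨hwX, hwe⟩ := Finset.mem_filter.mp hw
    have hw0 := Finset.ne_of_mem_erase hwX
    obtain ⟨c, hc⟩ := hline _ _ (hh w₁ hw₁0) hwe.symm
    have hsc : ∀ w : PS k, ∃ r : F, r ≠ 0 ∧ h w = r • w := fun w => by
      by_cases hg : good w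
      · exact ⟨1, one_ne_zero, by simp [h, hg]⟩
      · exact ⟨s, hs0, by simp [h, hg]⟩
    obtain ⟨r, hr, er⟩ := hsc w
    obtain ⟨r₁, -, er₁⟩ := hsc w₁
    rw [er, er₁, smul_smul] at hc
    have hw' : w = (r⁻¹ * (c * r₁)) • w₁ := by rw [mul_smul, ← hc, smul_smul, inv_mul_cancel₀ hr, one_smul]
    exact Finset.mem_image.mpr ⟨_, Finset.mem_erase.mpr ⟨fun h0 => hw0 (by rw [hw', h0, zero_smul]),
      Finset.mem_univ _⟩, hw'.symm⟩
  have hsub : insert (f 0) (X.image (f ∘ h)) ⊆
      Finset.univ.filter fun s : Zs k Ω α => ∀ w, wAct α w s = s := by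
    intro o ho
    refine Finset.mem_filter.mpr ⟨Finset.mem_univ _, ?_⟩
    rcases Finset.mem_insert.mp ho with rfl | ho
    · exact hffix 0
    · obtain ⟨w, -, rfl⟩ := Finset.mem_image.mp ho
      exact hffix _
  have hnotmem : f 0 ∉ X.image (f ∘ h) := fun hm => by
    obtain ⟨w, hw, e⟩ := Finset.mem_image.mp hm
    exact hf0 _ (hh w (Finset.ne_of_mem_erase hw)) e
  have h2 := Finset.card_le_card hsub
  rw [Finset.card_insert_of_notMem hnotmem] at h2
  have h3 : Fintype.card F ^ (2 * k) - 1 = X.card := by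
    rw [hX, Finset.card_erase_of_mem (Finset.mem_univ _), Finset.card_univ, Fintype.card_fun,
      Fintype.card_sum, Fintype.card_fin, two_mul]
  rw [h3]
  calc X.card + (Fintype.card F - 1) ≤ (Fintype.card F - 1) * ((X.image (f ∘ h)).card + 1) := by
        rw [mul_add, mul_one]; exact Nat.add_le_add_right hfib _
    _ ≤ _ := Nat.mul_le_mul_left _ h2

end Cfsg.Agent.SpMinIndex
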