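import Cfsg.Agent.Lib.SpMinIndex.Transport
import Cfsg.Agent.Lib.SpMinIndex.TCount
import Cfsg.Agent.Lib.SpMinIndex.Lines

/-!
Every non-trivial transitive action of `Sp_{2m}(q)`, `m ≥ 2`, `q ≥ 3`, `(m,q) ≠ (2,3)`, has at least as
many points as the projective space.
-/

set_option autoImplicit false
set_option linter.unusedSectionVars false
set_option maxHeartbeats 800000
set_option synthInstance.maxHeartbeats 100000

namespace Cfsg.Agent.SpMinIndex

open Matrix

variable {F : Type*} [Field F] [Fintype F] {k : ℕ}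

local notation "PS" m => (Fin m ⊕ Fin m → F)
local notation "Sp" m => Matrix.symplecticGroup (Fin m) F
local notation "B" => FormsLib.spB _ F

theorem arith_many {q Q S : ℕ} (hq : 3 ≤ q) (hQ : q * q ≤ Q)
    (h : q + (Q - 1) * (q + 2) ≤ S) : q * q * Q - 1 ≤ (q - 1) * S := by
  obtain ⟨a, rfl⟩ : ∃ a, q = a + 3 := ⟨q - 3, by omega⟩
  have hQ' : 9 ≤ Q := le_trans (Nat.mul_le_mul hq hq) hQ
  obtain ⟨b, rfl⟩ : ∃ b, Q = b + 9 := ⟨Q - 9, by omega⟩
  refine le_trans ?_ (Nat.mul_le_mul_left _ h)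
  rw [show b + 9 - 1 = b + 8 by omega, show a + 3 - 1 = a + 2 by omega, Nat.sub_le_iff_le_add]
  nlinarith

theorem arith_short {q Q S c : ℕ} (hq : 3 ≤ q) (hQ : q * q ≤ Q) (hc : Q - 1 + (q - 1) ≤ (q - 1) * c)
    (h : q * (Q - 1) + q * (c + 1) ≤ S) : q * q * Q - 1 ≤ (q - 1) * S := by
  obtain ⟨a, rfl⟩ : ∃ a, q = a + 3 := ⟨q - 3, by omega⟩
  have hQ' : 9 ≤ Q := le_trans (Nat.mul_le_mul hq hq) hQ
  obtain ⟨b, rfl⟩ : ∃ b, Q = b + 9 := ⟨Q - 9, by omega⟩
  refine le_trans ?_ (Nat.mul_le_mul_left _ h)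
  simp only [show b + 9 - 1 = b + 8 by omega, show a + 3 - 1 = a + 2 by omega] at hc ⊢
  rw [Nat.sub_le_iff_le_add]
  nlinarith

theorem arith_lines {q Q S n : ℕ} (hq : 3 ≤ q) (hQ : q * q ≤ Q) (hn : 2 * (Q - 1) ≤ (q - 1) * n)
    (h : q * (n + (Q - 1)) ≤ S) : q * q * Q - 1 ≤ (q - 1) * S := by
  obtain ⟨a, rfl⟩ : ∃ a, q = a + 3 := ⟨q - 3, by omega⟩
  have hQ' : 9 ≤ Q := le_trans (Nat.mul_le_mul hq hq) hQ
  obtain ⟨b, rfl⟩ : ∃ b, Q = b + 9 := ⟨Q - 9, by omega⟩
  refine le_trans ?_ (Nat.mul_le_mul_left _ h)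
  simp only [show b + 9 - 1 = b + 8 by omega, show a + 3 - 1 = a + 2 by omega] at hn ⊢
  rw [Nat.sub_le_iff_le_add]
  nlinarith

variable {Ω : Type*} [Fintype Ω] [DecidableEq Ω] [MulAction (Matrix.symplecticGroup (Fin (k + 1)) F) Ω]

theorem wAct_mk_eq {α : F} {y y' : Ω} (h : Hits (k := k) α y) (h' : Hits (k := k) α y') {u : PS k} :
    wAct α u (mkZ h) = mkZ h' ↔ ∃ z : F, qq u z • y = y' := by
  rw [wAct, permZ_mk, mkZ_eq]
  exact exists_congr fun z => by rw [qq, ← (rE_tr_commute (B_a0_iota u) z).eq, mul_smul]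

theorem hits_qq {α : F} {y : Ω} (h : Hits (k := k) α y) (u : PS k) (z : F) :
    Hits (k := k) α (qq u z • y) :=
  hits_smul (by rw [qq, ap_mul, tr_ap, B_self, mul_zero, zero_smul, add_zero, rE_iota_a0]) h

/-- The inclusion of the orbits hit by a character into the moved orbits. -/
noncomputable def inclZ (α : F) (s : Zs k Ω α) : Zs k Ω (0 : F) :=
  ⟨s.1, let ⟨y, h, e⟩ := s.2; ⟨y, hits_zero h.1, e⟩⟩

theorem inclZ_injective (α : F) : Function.Injective (inclZ (k := k) (Ω := Ω) α) :=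
  fun _ _ e => Subtype.ext (Subtype.ext_iff.mp e :)

theorem inclZ_wAct (α : F) (u : PS k) (s : Zs k Ω α) :
    inclZ α (wAct α u s) = wAct (0 : F) u (inclZ α s) := Subtype.ext rfl

theorem kills_inclZ {α : F} {χ : AddChar (PS k) ℂ} {s : Zs k Ω α} (h : Kills (wAct α) χ s) :
    Kills (wAct (0 : F)) χ (inclZ α s) := fun u hu => h u (inclZ_injective α ((inclZ_wAct α u s).trans hu))

/-- The lower bound for a non-trivial transitive action. -/
theorem card_ge (hk : 1 ≤ k) (hq : 3 ≤ Fintype.card F) (hexc : ¬ (k = 1 ∧ Fintype.card F = 3))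
    [MulAction.IsPretransitive (Matrix.symplecticGroup (Fin (k + 1)) F) Ω]
    (hne : ∃ (g : Sp (k + 1)) (y : Ω), g • y ≠ y) :
    Fintype.card F ^ (2 * (k + 1)) - 1 ≤ (Fintype.card F - 1) * Fintype.card Ω := by
  classical
  by_contra hcon
  have hlt := lt_of_not_ge hcon
  have hne' := hne
  obtain ⟨_, y₀, -⟩ := hne
  haveI : Nonempty Ω := ⟨y₀⟩
  set q := Fintype.card F with hqdef
  set Q := q ^ (2 * k) with hQ
  have hN : q ^ (2 * (k + 1)) = q * q * Q := by rw [hQ]; ring
  rw [hN] at hlt hcon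
  have hQ9 : q * q ≤ Q := by
    rw [hQ, ← sq]; exact Nat.pow_le_pow_right (by omega) (by omega)
  have hQpos : 0 < Q := pow_pos (by omega) _
  have hP : NoPar (k + 1) F Ω := fun y R hR hti hinv => by
    have := card_ge_of_preserves y hR hti hinv
    rw [← hqdef, hN] at this
    exact hcon this
  have hT : ∀ y : Ω, ¬ ∀ v : PS (k + 1), Full y v := by
    intro y h
    have hall : (MulAction.stabilizer (Sp (k + 1)) y) = ⊤ := by
      rw [eq_top_iff, ← S0765.result (F := F) (k + 1), Subgroup.closure_le]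
      rintro A ⟨w, c, hA⟩
      rw [show A = tr w c from Subtype.ext hA]
      exact h w c
    obtain ⟨g, y', hg⟩ := hne'
    obtain ⟨g', rfl⟩ := MulAction.exists_smul_eq (Sp (k + 1)) y y'
    refine hg ?_
    have h1 : ∀ g : Sp (k + 1), g • y = y := fun g => (hall ▸ Subgroup.mem_top g : g ∈ MulAction.stabilizer _ y)
    rw [h1 g', h1 g]
  have hmov := exists_hits_mov hk hq hP hT
  have hsum := sum_card_le (F := F) (k := k) (Ω := Ω)
  obtain ⟨j, rfl⟩ : ∃ j, k = j + 1 := ⟨k - 1, by omega⟩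
  set c0 : PS (j + 1) := a0 with hc0
  have hc0' : c0 ≠ 0 := a0_ne
  set n : F → ℕ := fun α => (orbs (wAct (k := j + 1) (Ω := Ω) α)).card with hn
  set μ : F → ℕ := fun α => mu (wAct (k := j + 1) (Ω := Ω) α) c0 with hμ
  have hmoved : ∀ α, ∃ s : Zs (j + 1) Ω α, ∃ u, wAct α u s ≠ s := fun α =>
    let ⟨_, hy, hm⟩ := hmov α
    ⟨mkZ hy, (mov_iff hy).mp hm⟩
  have hμ1 : ∀ α, 1 ≤ μ α := fun α =>
    let ⟨_, hs⟩ := hmoved α
    one_le_mu (wAct_add α) (wAct_sym α) hs hc0'
  have hn1 : ∀ α, 1 ≤ n α := fun α =>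
    Finset.card_pos.mpr ⟨_, Finset.mem_image_of_mem _ (Finset.mem_univ (hmoved α).choose)⟩
  have hcard : ∀ α, Fintype.card (Zs (j + 1) Ω α) = n α + (Q - 1) * μ α := fun α => by
    have h := card_add_mu (wAct_add (Ω := Ω) α) (wAct_sym α) hc0'
    change _ + μ α = n α + Q * μ α at h
    obtain ⟨b, hb⟩ : ∃ b, Q = b + 1 := ⟨Q - 1, by omega⟩
    rw [hb] at h ⊢
    rw [Nat.add_sub_cancel]
    linarith
  have hZQ : ∀ α, Q ≤ Fintype.card (Zs (j + 1) Ω α) := fun α =>
    let ⟨_, hs⟩ := hmoved α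
    card_ge_of_moved (wAct_add α) (wAct_sym α) (by omega) hs
  -- no vector is full
  set Fix := Finset.univ.filter fun y : Ω => Full y (a0 : PS (j + 1 + 1)) with hFix
  have hWfix : ∀ y : Ω, Full y (a0 : PS (j + 1 + 1)) → ∀ w : PS (j + 1), rE a0 (iota w) • y = y := by
    intro y hy w
    by_contra hmove
    -- the fixed points are numerous
    have hFixQ : Q ≤ Fix.card := by
      let act : (PS (j + 1)) → Equiv.Perm {y : Ω // Full y (a0 : PS (j + 1 + 1))} := fun w =>
        (MulAction.toPerm (rE (a0 : PS (j + 1 + 1)) (iota w))).subtypePerm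
          fun y => full_smul_fix (rE_iota_a0 w)
      have hadd : ∀ u v, act (u + v) = act u * act v := fun u v => Equiv.ext fun y => Subtype.ext (by
        show rE a0 (iota (u + v)) • y.1 = rE a0 (iota u) • rE a0 (iota v) • y.1
        rw [smul_smul, rE_mul (B_a0_iota u) (B_a0_iota v), ← iota_add, mul_smul, y.2])
      have hsym : ∀ (v : PS (j + 1)) (x : F), ∃ π : Equiv.Perm {y : Ω // Full y (a0 : PS (j + 1 + 1))},
          ∀ a, π * act a = act (ap (tr v x) a) * π := fun v x =>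
        ⟨(MulAction.toPerm (tr (iota v) x)).subtypePerm fun y => full_smul_fix (tr_iota_a0 v x),
          fun a => Equiv.ext fun y => Subtype.ext (by
            show tr (iota v) x • rE a0 (iota a) • y.1 = rE a0 (iota (ap (tr v x) a)) • tr (iota v) x • y.1
            rw [smul_smul, smul_smul, rE_iota_conj (tr_iota_a0 v x) (fun b => tr_iota v b x)])⟩
      have h := card_ge_of_moved hadd hsym (by omega) (z := ⟨y, hy⟩)
        ⟨w, fun e => hmove (congrArg Subtype.val e)⟩
      rwa [Fintype.card_subtype] at h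
    -- so some point has many full vectors
    set X := (Finset.univ : Finset (PS (j + 1 + 1))).erase 0 with hX
    have hv : ∀ v ∈ X, Fix.card ≤ (Finset.univ.filter fun y : Ω => Full y v).card := by
      intro v hv
      obtain ⟨g, hg⟩ := exists_map (F := F) a0_ne (Finset.ne_of_mem_erase hv)
      refine Finset.card_le_card_of_injOn (fun y => g • y) (fun y hy => ?_)
        (fun y _ y' _ e => MulAction.injective g e)
      refine Finset.mem_filter.mpr ⟨Finset.mem_univ _, ?_⟩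
      rw [← hg, full_move]
      exact (Finset.mem_filter.mp hy).2
    obtain ⟨y₁, hy₁⟩ : ∃ y₁ : Ω, (q - 1) * Q < (X.filter fun v => Full y₁ v).card := by
      by_contra! hsmall
      have h1 := Finset.sum_card_bipartiteAbove_eq_sum_card_bipartiteBelow
        (s := (Finset.univ : Finset Ω)) (t := X) (fun y v => Full y v)
      simp only [Finset.bipartiteAbove, Finset.bipartiteBelow] at h1
      have h2 : X.card * Fix.card ≤ Fintype.card Ω * ((q - 1) * Q) := by
        calc X.card * Fix.card ≤ ∑ v ∈ X, (Finset.univ.filter fun y : Ω => Full y v).card := by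
              rw [← smul_eq_mul]; exact Finset.card_nsmul_le_sum _ _ _ hv
          _ = ∑ y : Ω, (X.filter fun v => Full y v).card := h1.symm
          _ ≤ _ := by
              rw [← Finset.card_univ (α := Ω), ← smul_eq_mul]
              exact Finset.sum_le_card_nsmul _ _ _ fun y _ => hsmall y
      have hXc : X.card = q * q * Q - 1 := by
        rw [hX, Finset.card_erase_of_mem (Finset.mem_univ _), Finset.card_univ, Fintype.card_fun,
          Fintype.card_sum, Fintype.card_fin, ← two_mul, ← hqdef, hN]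
      rw [hXc] at h2
      have h3 : (q * q * Q - 1) * Q ≤ (q * q * Q - 1) * Fix.card := Nat.mul_le_mul_left _ hFixQ
      have h4 : (q - 1) * Fintype.card Ω * Q < (q * q * Q - 1) * Q :=
        Nat.mul_lt_mul_of_pos_right hlt (by omega)
      have h5 : Fintype.card Ω * ((q - 1) * Q) = (q - 1) * Fintype.card Ω * Q := by ring
      exact absurd h4 (not_lt.mpr (h5 ▸ h3.trans h2))
    refine hT y₁ (all_full hP hq ?_)
    refine lt_of_lt_of_le hy₁ (Finset.card_le_card fun v hv => ?_)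
    obtain ⟨h1, h2⟩ := Finset.mem_filter.mp hv
    exact Finset.mem_filter.mpr ⟨Finset.mem_univ _, Finset.ne_of_mem_erase h1, h2⟩
  have hnofull : ∀ (y : Ω) (v : PS (j + 1 + 1)), Full y v → v = 0 := by
    intro y v hv
    refine no_full_of_radical hP (hT y) (fun a ha c hac => ?_) hv
    rcases eq_or_ne a 0 with rfl | ha0
    · have e : rE (0 : PS (j + 1 + 1)) c = 1 := ext_ap fun x => by rw [rE_ap hac, ap_one]; simp
      rw [e, one_smul]
    obtain ⟨g, hg⟩ := exists_map (F := F) ha0 a0_ne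
    obtain ⟨w, r, hwr⟩ := rE_eq_qq (u := ap g c) (by rw [← hg, B_ap, hac])
    have hf : Full (g • y) (a0 : PS (j + 1 + 1)) := by rw [← hg, full_move]; exact ha
    refine MulAction.injective g ?_
    show g • rE a c • y = g • y
    rw [smul_smul, show g * rE a c = (g * rE a c * g⁻¹) * g by group, rE_conj, hg, hwr, mul_smul, qq,
      mul_smul, hf r, hWfix _ hf w]
  have hnf : ∀ y : Ω, ¬ Full y (a0 : PS (j + 1 + 1)) := fun y h => a0_ne (hnofull y _ h)
  have htot : ∑ α : F, Fintype.card (Zs (j + 1) Ω α) ≤ Fintype.card Ω := le_trans (Nat.le_add_right _ _) hsum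
  have hbad : ∀ S, q * q * Q - 1 ≤ (q - 1) * S → S ≤ Fintype.card Ω → False := fun S h1 h2 => by
    have := Nat.mul_le_mul_left (q - 1) h2
    omega
  -- few orbits per vector
  by_cases hmany : q + 2 ≤ ∑ α : F, μ α
  · refine hbad _ (arith_many hq hQ9 ?_) htot
    calc q + (Q - 1) * (q + 2) ≤ (∑ α : F, n α) + (Q - 1) * ∑ α : F, μ α := by
          refine Nat.add_le_add ?_ (Nat.mul_le_mul_left _ hmany)
          rw [hqdef, ← Finset.card_univ, Finset.card_eq_sum_ones]
          exact Finset.sum_le_sum fun α _ => hn1 α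
      _ = ∑ α : F, Fintype.card (Zs (j + 1) Ω α) := by
          rw [Finset.mul_sum, ← Finset.sum_add_distrib]
          exact Finset.sum_congr rfl fun α _ => (hcard α).symm
  have hμle : ∀ α, μ α ≤ μ 0 := by
    intro α
    show num (wAct α) (wtV c0) ≤ num (wAct (0 : F)) (wtV c0)
    refine Finset.card_le_card_of_injOn (fun o => o.image (inclZ α)) (fun o ho => ?_)
      (fun o _ o' _ e => Finset.image_injective (inclZ_injective α) e)
    obtain ⟨s, hs, rfl⟩ := Finset.mem_image.mp ho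
    refine Finset.mem_image.mpr ⟨inclZ α s, Finset.mem_filter.mpr
      ⟨Finset.mem_univ _, kills_inclZ (Finset.mem_filter.mp hs).2⟩, ?_⟩
    ext t
    simp only [mem_orb, Finset.mem_image]
    exact ⟨fun ⟨u, e⟩ => ⟨_, ⟨u, rfl⟩, by rw [inclZ_wAct, e]⟩,
      fun ⟨_, ⟨u, e⟩, e'⟩ => ⟨u, by rw [← inclZ_wAct, e, e']⟩⟩
  -- an orbit meeting a class is hit
  have hmeet : ∀ {α : F} {y y' : Ω} (h : Hits (k := j + 1) (0 : F) y) (h' : Hits (k := j + 1) α y'),
      mkZ h ∈ orb (wAct (0 : F)) (inclZ α (mkZ h')) → Hits (k := j + 1) α y := by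
    intro α y y' h h' hm
    obtain ⟨u, hu⟩ := mem_orb.mp hm
    obtain ⟨z, hz⟩ := (wAct_mk_eq (hits_zero h'.1) h).mp hu
    exact hz ▸ hits_qq h' u z
  have hkex : ∀ (α : F) (c : PS (j + 1)), c ≠ 0 →
      ∃ (y : Ω) (h : Hits (k := j + 1) α y), Kills (wAct α) (wtV c) (mkZ h) := by
    intro α c hc
    obtain ⟨_, hs⟩ := hmoved α
    obtain ⟨o, ho⟩ := Finset.card_pos.mp (one_le_mu (wAct_add α) (wAct_sym α) hs hc)
    obtain ⟨s, hs', -⟩ := Finset.mem_image.mp ho
    obtain ⟨y, h, rfl⟩ := mkZ_surj s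
    exact ⟨y, h, (Finset.mem_filter.mp hs').2⟩
  have hμ0 : μ 0 ≤ 1 := by
    by_contra h0
    obtain ⟨o₁, ho₁, o₂, ho₂, hne12⟩ := Finset.one_lt_card.mp (show 1 < num (wAct (Ω := Ω) (0 : F)) (wtV c0) by
      exact lt_of_not_ge h0)
    obtain ⟨s₁, hs₁, rfl⟩ := Finset.mem_image.mp ho₁
    obtain ⟨s₂, hs₂, rfl⟩ := Finset.mem_image.mp ho₂
    obtain ⟨y₁, h₁, rfl⟩ := mkZ_surj s₁
    obtain ⟨y₂, h₂, rfl⟩ := mkZ_surj s₂
    have hsplit := Finset.add_sum_erase _ μ (Finset.mem_univ (0 : F))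
    have hrest : q - 1 ≤ ∑ α ∈ (Finset.univ : Finset F).erase 0, μ α := by
      rw [hqdef, ← Finset.card_univ, ← Finset.card_erase_of_mem (Finset.mem_univ (0 : F)),
        Finset.card_eq_sum_ones]
      exact Finset.sum_le_sum fun α _ => hμ1 α
    have htwo : μ 0 = 2 := by omega
    -- every character hits one of the two
    have hor : ∀ α : F, Hits (k := j + 1) α y₁ ∨ Hits (k := j + 1) α y₂ := by
      intro α
      obtain ⟨y, h, hky⟩ := hkex α c0 hc0'
      have hmem : orb (wAct (0 : F)) (inclZ α (mkZ h)) ∈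
          (Finset.univ.filter (Kills (wAct (Ω := Ω) (0 : F)) (wtV c0))).image (orb (wAct (0 : F))) :=
        Finset.mem_image_of_mem _ (Finset.mem_filter.mpr ⟨Finset.mem_univ _, kills_inclZ hky⟩)
      have hsub : ({orb (wAct (0 : F)) (mkZ h₁), orb (wAct (0 : F)) (mkZ h₂)} : Finset _) ⊆
          (Finset.univ.filter (Kills (wAct (Ω := Ω) (0 : F)) (wtV c0))).image (orb (wAct (0 : F))) := by
        intro o ho
        rcases Finset.mem_insert.mp ho with rfl | ho
        · exact ho₁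
        · rw [Finset.mem_singleton.mp ho]; exact ho₂
      rw [← Finset.eq_of_subset_of_card_le hsub (by rw [Finset.card_pair hne12]; exact htwo.le)] at hmem
      rcases Finset.mem_insert.mp hmem with e | e
      · exact Or.inl (hmeet h₁ h (e ▸ mem_orb_self (wAct_add _) _))
      · rw [Finset.mem_singleton] at e
        exact Or.inr (hmeet h₂ h (e ▸ mem_orb_self (wAct_add _) _))
    have hadd : ∀ {α β : F} {y : Ω}, Hits (k := j + 1) α y → Hits (k := j + 1) (α + β) y →
        Kills (actX (a0 : PS (j + 1 + 1))) (wtF β) y := fun {α β y} ha hab x hx => by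
      have h1 := hab.2 x hx
      have h2 := ha.2 x hx
      rw [wtF_apply] at h1 h2 ⊢
      rwa [add_mul, AddChar.map_add_eq_mul, h2, one_mul] at h1
    obtain ⟨α₁, hα₁, ha₁⟩ := hits_exists (hnf y₁)
    obtain ⟨α₂, hα₂, ha₂⟩ := hits_exists (hnf y₂)
    obtain ⟨α, hα, hb₁, hb₂⟩ : ∃ α : F, α ≠ 0 ∧ Hits (k := j + 1) α y₁ ∧ Hits (k := j + 1) α y₂ := by
      rcases hor (α₁ + α₂) with h | h
      · exact ⟨α₂, hα₂, hits_of_kills hα₂ (hadd ha₁ h), ha₂⟩
      · rw [add_comm α₁ α₂] at h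
        exact ⟨α₁, hα₁, ha₁, hits_of_kills hα₁ (hadd ha₂ h)⟩
    have h2le : 2 ≤ μ α := by
      have hk1 : Kills (wAct α) (wtV c0) (mkZ hb₁) := fun u hu =>
        (Finset.mem_filter.mp hs₁).2 u ((inclZ_wAct α u (mkZ hb₁)).symm.trans (congrArg (inclZ α) hu))
      have hk2 : Kills (wAct α) (wtV c0) (mkZ hb₂) := fun u hu =>
        (Finset.mem_filter.mp hs₂).2 u ((inclZ_wAct α u (mkZ hb₂)).symm.trans (congrArg (inclZ α) hu))
      refine Finset.one_lt_card.mpr ⟨_, Finset.mem_image_of_mem _ (Finset.mem_filter.mpr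
        ⟨Finset.mem_univ _, hk1⟩), _, Finset.mem_image_of_mem _ (Finset.mem_filter.mpr
        ⟨Finset.mem_univ _, hk2⟩), fun e => hne12 ?_⟩
      have hmem : mkZ hb₁ ∈ orb (wAct α) (mkZ hb₂) := e ▸ mem_orb_self (wAct_add α) _
      obtain ⟨u, hu⟩ := mem_orb.mp hmem
      refine orb_eq_of_mem (wAct_add _) (mem_orb.mpr ⟨u, ?_⟩)
      exact (inclZ_wAct α u (mkZ hb₂)).symm.trans (congrArg (inclZ α) hu)
    refine hmany ?_
    rw [← Finset.add_sum_erase _ μ (Finset.mem_univ (0 : F)),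
      ← Finset.add_sum_erase _ μ (Finset.mem_erase.mpr ⟨hα, Finset.mem_univ α⟩)]
    have hrest' : q - 2 ≤ ∑ β ∈ ((Finset.univ : Finset F).erase 0).erase α, μ β := by
      refine le_trans (le_of_eq ?_) (Finset.card_nsmul_le_sum _ μ 1 fun β _ => hμ1 β)
      rw [Finset.card_erase_of_mem (Finset.mem_erase.mpr ⟨hα, Finset.mem_univ α⟩),
        Finset.card_erase_of_mem (Finset.mem_univ _), Finset.card_univ, smul_eq_mul, mul_one, ← hqdef]
      omega
    omega
  have hμall : ∀ α, μ α = 1 := fun α => le_antisymm ((hμle α).trans hμ0) (hμ1 α)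
  -- a moved orbit is hit by every character
  have hallhits : ∀ y : Ω, Mov (F := F) (k := j + 1) y → ∀ α : F, Hits (k := j + 1) α y := by
    intro y hy α
    have h0 : Hits (k := j + 1) (0 : F) y := hits_zero (hnf y)
    obtain ⟨χ, hχ, hkχ⟩ := exists_kills (wAct_add (0 : F)) ((mov_iff h0).mp hy)
    obtain ⟨c, rfl⟩ := wtV_bijective.2 χ
    have hc : c ≠ 0 := fun e => hχ (by rw [e, wtV_zero])
    obtain ⟨y', h', hky⟩ := hkex α c hc
    have hle : num (wAct (Ω := Ω) (0 : F)) (wtV c) ≤ 1 := by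
      have h1 := mu_eq (wAct_add (Ω := Ω) (0 : F)) (wAct_sym 0) hc hc0'
      exact le_of_eq_of_le h1 hμ0
    exact hmeet h0 h' (orb_eq_of_num_le_one (wAct_add _) hle hkχ (kills_inclZ hky) ▸
      mem_orb_self (wAct_add _) _)
  have hfree0 : ∀ y : Ω, Mov (F := F) (k := j + 1) y → ∀ x : F, tr (a0 : PS (j + 1 + 1)) x • y = y → x = 0 := by
    intro y hy x hx
    refine free_of_kills_all (actX_add (Ω := Ω) (a0 : PS (j + 1 + 1))) (fun χ => ?_) hx
    obtain ⟨α, rfl⟩ := wtF_bijective.2 χ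
    exact (hallhits y hy α).2
  by_cases hTex : ∃ y : Ω, ¬ Mov (F := F) (k := j + 1) y
  · -- an orbit invariant under the radical
    obtain ⟨y, hy⟩ := hTex
    have h2 : (2 : F) = 0 := by_contra fun h2 => hy (mov_of_odd (by omega) h2 (hnf y))
    haveI : CharP F 2 := CharTwo.of_one_ne_zero_of_two_eq_zero one_ne_zero h2
    obtain ⟨β, hβ, hhit⟩ := hits_exists (hnf y)
    have hT' : ∀ α : F, ∃ y' : Ω, Hits (k := j + 1) α y' ∧ ¬ Mov (F := F) (k := j + 1) y' := by
      intro α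
      rcases eq_or_ne α 0 with rfl | hα
      · exact ⟨y, hits_zero (hnf y), hy⟩
      obtain ⟨s, hs⟩ : ∃ s : F, s * s = β / α := by
        obtain ⟨c, hc⟩ := FiniteField.isSquare_of_char_two (F := F) (ringChar.eq_iff.mpr inferInstance) (β / α)
        exact ⟨c, hc.symm⟩
      have hs0 : s ≠ 0 := fun e => div_ne_zero hβ hα (by rw [← hs, e, zero_mul])
      obtain ⟨g, hg⟩ := exists_map (F := F) a0_ne (smul_ne_zero hs0 (a0_ne (k := j + 1)))
      refine ⟨g • y, ?_, fun hm => hy ?_⟩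
      · have h1 := hits_scale hs0 hg hβ hhit
        rwa [hs, div_div_cancel₀ hβ] at h1
      · have hginv : ap g⁻¹ a0 = s⁻¹ • (a0 : PS (j + 1 + 1)) := ap_injective g (by
          rw [ap_inv_ap, ap_smul, hg, smul_smul, inv_mul_cancel₀ hs0, one_smul])
        have := mov_scale (inv_ne_zero hs0) hginv hm
        rwa [inv_smul_smul] at this
    obtain ⟨y', hy', hmy'⟩ := hT' 1
    -- count
    have hcnt : ∀ α : F, ∃ c, Q - 1 + (q - 1) ≤ (q - 1) * c ∧ c + 1 ≤ n α := by
      intro α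
      have hsingle : ∀ (β : F), (Finset.univ.filter fun s : Zs (j + 1) Ω β => ∀ w, wAct β w s = s).card + 1 ≤
          n β := by
        intro β
        obtain ⟨s₀, w₀, hw₀⟩ := hmoved β
        set T := Finset.univ.filter fun s : Zs (j + 1) Ω β => ∀ w, wAct β w s = s
        have hs₀ : s₀ ∉ T := fun h => hw₀ ((Finset.mem_filter.mp h).2 w₀)
        rw [← Finset.card_insert_of_notMem hs₀]
        refine Finset.card_le_card_of_injOn (orb (wAct β)) (fun s _ => Finset.mem_image_of_mem _ (Finset.mem_univ _)) ?_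
        intro s hs t ht e
        have hfixed : ∀ {a b : Zs (j + 1) Ω β}, a ∈ T → orb (wAct β) a = orb (wAct β) b → b = a := by
          intro a b ha e
          obtain ⟨u, hu⟩ := mem_orb.mp (e ▸ mem_orb_self (wAct_add β) b : b ∈ orb (wAct β) a)
          rw [← hu]
          exact (Finset.mem_filter.mp ha).2 u
        rcases Finset.mem_insert.mp hs with rfl | hs
        · rcases Finset.mem_insert.mp ht with rfl | ht
          · rfl
          · exact hfixed ht e.symm
        · exact (hfixed hs e).symm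
      rcases eq_or_ne α 0 with rfl | hα
      · refine ⟨_, fixed_count hq (one_ne_zero : (1 : F) ≠ 0) hy' hmy', le_trans ?_ (hsingle 0)⟩
        refine Nat.add_le_add_right (Finset.card_le_card_of_injOn (inclZ 1) (fun s hs => ?_)
          (fun _ _ _ _ e => inclZ_injective 1 e)) 1
        refine Finset.mem_filter.mpr ⟨Finset.mem_univ _, fun w => ?_⟩
        rw [← inclZ_wAct, (Finset.mem_filter.mp hs).2 w]
      · obtain ⟨y'', hy'', hmy''⟩ := hT' α
        exact ⟨_, fixed_count hq hα hy'' hmy'', hsingle α⟩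
    choose c hc hcn using hcnt
    obtain ⟨α₀, -, hmin⟩ := Finset.exists_min_image Finset.univ c Finset.univ_nonempty
    refine hbad _ (arith_short hq hQ9 (hc α₀) ?_) htot
    calc q * (Q - 1) + q * (c α₀ + 1) = ∑ _α : F, ((Q - 1) + (c α₀ + 1)) := by
          rw [Finset.sum_const, Finset.card_univ, smul_eq_mul, ← hqdef]
          ring
      _ ≤ _ := Finset.sum_le_sum fun α _ => by
          rw [hcard α, hμall α, mul_one]
          have := hmin α (Finset.mem_univ _)
          have := hcn α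
          omega
  push Not at hTex
  have hfree : ∀ (y : Ω) (v : PS (j + 1 + 1)) (x : F), v ≠ 0 → tr v x • y = y → x = 0 := by
    intro y v x hv hx
    obtain ⟨g, hg⟩ := exists_map (F := F) hv a0_ne
    refine hfree0 _ (hTex (g • y)) x ?_
    rw [← hg, ← tr_smul_move, hx]
  have hmovZ : ∀ s : Zs (j + 1) Ω (0 : F), ∃ u, wAct (0 : F) u s ≠ s := fun s => by
    obtain ⟨y, h, rfl⟩ := mkZ_surj s
    exact (mov_iff h).mp (hTex y)
  have hle : ∀ c : PS (j + 1), c ≠ 0 → mu (wAct (Ω := Ω) (0 : F)) c ≤ 1 := fun c hc =>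
    le_of_eq_of_le (mu_eq (wAct_add _) (wAct_sym _) hc hc0') hμ0
  have h0 : ∀ y : Ω, Hits (k := j + 1) (0 : F) y := fun y => hits_zero (hnf y)
  rcases trichotomy (wAct_add (0 : F)) (wAct_sym 0) (by omega) hle hmovZ with ⟨htr, hfr⟩ | hmany' | hlines
  · refine regular_false (by omega) hq hexc hfree (fun y y' => ?_) (fun y w z h => ?_)
    · obtain ⟨w, hw⟩ := htr (mkZ (h0 y)) (mkZ (h0 y'))
      exact ⟨w, (wAct_mk_eq (h0 y) (h0 y')).mp hw⟩
    · obtain rfl := hfr (mkZ (h0 y)) w ((wAct_mk_eq (h0 y) (h0 y)).mpr ⟨z, h⟩)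
      refine ⟨rfl, hfree y a0 z a0_ne ?_⟩
      rwa [qq, iota_zero, rE_zero, one_mul] at h
  · refine hbad _ (arith_lines (n := n 0) hq hQ9 hmany' ?_) htot
    calc q * (n 0 + (Q - 1)) = ∑ _α : F, (n 0 + (Q - 1)) := by
          rw [Finset.sum_const, Finset.card_univ, smul_eq_mul]
      _ ≤ _ := Finset.sum_le_sum fun α _ => by
          have e := hcard 0
          rw [hμall 0, mul_one] at e
          rw [← e]
          refine Fintype.card_le_of_injective (fun s => ⟨s.1, ?_⟩)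
            (fun s t e => Subtype.ext (congrArg (fun r : Zs (j + 1) Ω α => r.1) e))
          obtain ⟨y, -, e⟩ := s.2
          exact ⟨y, hallhits y (hTex y) α, e⟩
  · refine lines_false (by omega) hq hexc hfree fun y => ?_
    obtain ⟨v, hv, hin, hout, hg⟩ := hlines (mkZ (h0 y))
    refine ⟨v, hv, fun u hu => (wAct_mk_eq (h0 y) (h0 y)).mp (hin u hu),
      fun u z h => hout u ((wAct_mk_eq (h0 y) (h0 y)).mpr ⟨z, h⟩), fun g h hg0 hgh hs => ?_⟩
    have := hg h (permZ g hg0 0) (fun a => permZ_wAct hg0 hgh 0 a) hs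
    rw [permZ_mk] at this
    obtain ⟨u, hu⟩ := mem_orb.mp this
    exact ⟨u, (wAct_mk_eq (h0 y) _).mp hu⟩

end Cfsg.Agent.SpMinIndex
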