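import Cfsg.Agent.Lib.SpMinIndex.Cases
import Cfsg.Agent.Lib.SpMinIndex.Block

/-!
The orbits of the root group of the base point and the action of `a^⊥/a` on them.
-/

set_option autoImplicit false
set_option linter.unusedSectionVars false
set_option maxHeartbeats 400000
set_option synthInstance.maxHeartbeats 100000

namespace Cfsg.Agent.SpMinIndex

open Matrix

variable {F : Type*} [Field F] [Fintype F] {k : ℕ}

local notation "PS" m => (Fin m ⊕ Fin m → F)
local notation "Sp" m => Matrix.symplecticGroup (Fin m) F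
local notation "B" => FormsLib.spB _ F

variable {Ω : Type*} [Fintype Ω] [DecidableEq Ω] [MulAction (Matrix.symplecticGroup (Fin (k + 1)) F) Ω]

/-- The root group at a vector as permutations. -/
noncomputable def actX (v : PS (k + 1)) (x : F) : Equiv.Perm Ω := MulAction.toPerm (tr v x)

theorem actX_add (v : PS (k + 1)) (x x' : F) :
    (actX v (x + x') : Equiv.Perm Ω) = actX v x * actX v x' :=
  Equiv.ext fun z => by show tr v (x + x') • z = _; rw [tr_add, mul_smul]; rfl

/-- The root group orbit of a point. -/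
noncomputable def orbX (y : Ω) : Finset Ω := orb (actX (a0 : PS (k + 1))) y

/-- A moved point on whose stabiliser the character of `α` is trivial. -/
def Hits (α : F) (y : Ω) : Prop :=
  ¬ Full y (a0 : PS (k + 1)) ∧ Kills (actX (a0 : PS (k + 1))) (wtF α) y

/-- A point whose root group orbit is moved by the radical. -/
def Mov (y : Ω) : Prop :=
  ∃ w : PS k, ∀ z : F, rE (a0 : PS (k + 1)) (iota w) • y ≠ tr (a0 : PS (k + 1)) z • y

theorem mem_orbX {y y' : Ω} : y' ∈ orbX (F := F) (k := k) y ↔ ∃ z : F, tr (a0 : PS (k + 1)) z • y = y' :=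
  mem_orb

theorem comm_of_fix {g : Sp (k + 1)} (hg : ap g a0 = a0) (x : F) : g * tr a0 x = tr a0 x * g := by
  rw [← mul_inv_eq_iff_eq_mul, tr_conj, hg]

theorem smul_comm_fix {g : Sp (k + 1)} (hg : ap g a0 = a0) (x : F) (y : Ω) :
    g • tr (a0 : PS (k + 1)) x • y = tr (a0 : PS (k + 1)) x • g • y := by
  rw [smul_smul, smul_smul, comm_of_fix hg]

theorem orbX_eq_iff {y y' : Ω} :
    orbX (F := F) (k := k) y = orbX (F := F) (k := k) y' ↔ y' ∈ orbX (F := F) (k := k) y :=
  ⟨fun h => h ▸ mem_orb_self (actX_add a0) y', fun h => (orb_eq_of_mem (actX_add a0) h).symm⟩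

theorem image_orbX {g : Sp (k + 1)} (hg : ap g a0 = a0) (y : Ω) :
    (orbX (F := F) (k := k) y).image (fun z => g • z) = orbX (F := F) (k := k) (g • y) :=
  (orb_map (actX_add a0) (π := MulAction.toPerm g) (T := id) (fun b => ⟨b, rfl⟩)
    (fun a => Equiv.ext fun z => smul_comm_fix hg a z) y).symm

theorem full_smul_fix {g : Sp (k + 1)} (hg : ap g a0 = a0) {y : Ω} :
    Full (g • y) (a0 : PS (k + 1)) ↔ Full y (a0 : PS (k + 1)) := by
  simp only [Full, ← smul_comm_fix hg]
  exact forall_congr' fun x => smul_left_cancel_iff g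

theorem hits_smul {α : F} {g : Sp (k + 1)} (hg : ap g a0 = a0) {y : Ω} (h : Hits (k := k) α y) :
    Hits (k := k) α (g • y) :=
  ⟨fun hf => h.1 ((full_smul_fix hg).mp hf), kills_map (actX_add a0) (π := MulAction.toPerm g) (T := id)
    (fun b => ⟨b, rfl⟩) (fun a => Equiv.ext fun z => smul_comm_fix hg a z) (fun _ => rfl) h.2⟩

theorem hits_of_mem {α : F} {y y' : Ω} (h : y' ∈ orbX (F := F) (k := k) y) (hy : Hits (k := k) α y) :
    Hits (k := k) α y' := by
  obtain ⟨z, rfl⟩ := mem_orbX.mp h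
  exact hits_smul (by rw [tr_ap, B_self, mul_zero, zero_smul, add_zero]) hy

theorem hits_zero {y : Ω} (h : ¬ Full y (a0 : PS (k + 1))) : Hits (k := k) (0 : F) y :=
  ⟨h, by rw [wtF_zero]; exact kills_one y⟩

theorem hits_of_kills {α : F} (hα : α ≠ 0) {y : Ω} (h : Kills (actX (a0 : PS (k + 1))) (wtF α) y) :
    Hits (k := k) α y :=
  ⟨fun hf => by
    obtain ⟨x, hx⟩ := exists_psi_ne_one hα
    exact hx (by rw [← wtF_apply]; exact h x (hf x)), h⟩

/-- The root group orbits hit by a character. -/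
abbrev Zs (k : ℕ) (Ω : Type*) [Fintype Ω] [DecidableEq Ω]
    [MulAction (Matrix.symplecticGroup (Fin (k + 1)) F) Ω] (α : F) : Type _ :=
  {s : Finset Ω // ∃ y : Ω, Hits (k := k) α y ∧ orbX (F := F) (k := k) y = s}

noncomputable instance (α : F) : Fintype (Zs k Ω α) := by classical exact Fintype.ofFinite _

/-- The orbit of a point as an element of `Zs`. -/
noncomputable def mkZ {α : F} {y : Ω} (h : Hits (k := k) α y) : Zs k Ω α := ⟨_, y, h, rfl⟩

theorem mkZ_surj {α : F} (s : Zs k Ω α) : ∃ (y : Ω) (h : Hits (k := k) α y), mkZ h = s :=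
  let ⟨y, h, e⟩ := s.2; ⟨y, h, Subtype.ext e⟩

theorem mkZ_eq {α : F} {y y' : Ω} {h : Hits (k := k) α y} {h' : Hits (k := k) α y'} :
    mkZ h = mkZ h' ↔ ∃ z : F, tr (a0 : PS (k + 1)) z • y = y' := by
  rw [Subtype.ext_iff, ← mem_orbX]
  exact orbX_eq_iff

/-- The permutation of `Zs` induced by an element fixing the base point. -/
noncomputable def permZ (g : Sp (k + 1)) (hg : ap g a0 = a0) (α : F) : Equiv.Perm (Zs k Ω α) :=
  Equiv.ofBijective
    (fun s => ⟨s.1.image (fun z => g • z), by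
      obtain ⟨y, h, e⟩ := s.2
      exact ⟨g • y, hits_smul hg h, by rw [← e, image_orbX hg]⟩⟩)
    (Finite.injective_iff_bijective.mp fun s t e => Subtype.ext
      (Finset.image_injective (MulAction.injective g) (congrArg Subtype.val e)))

theorem permZ_mk {g : Sp (k + 1)} (hg : ap g a0 = a0) {α : F} {y : Ω} (h : Hits (k := k) α y) :
    permZ g hg α (mkZ h) = mkZ (hits_smul hg h) := Subtype.ext (image_orbX hg y)

theorem rE_iota_a0 (w : PS k) : ap (rE (a0 : PS (k + 1)) (iota w)) a0 = a0 := by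
  rw [rE_ap (B_a0_iota w), B_self, B_a0_iota, zero_smul, zero_smul, add_zero, add_zero]

/-- The action of `a^⊥/a` on the orbits. -/
noncomputable def wAct (α : F) (w : PS k) : Equiv.Perm (Zs k Ω α) :=
  permZ (rE a0 (iota w)) (rE_iota_a0 w) α

theorem wAct_add (α : F) (u v : PS k) :
    (wAct α (u + v) : Equiv.Perm (Zs k Ω α)) = wAct α u * wAct α v := Equiv.ext fun s => by
  obtain ⟨y, h, rfl⟩ := mkZ_surj s
  rw [Equiv.Perm.mul_apply, wAct, wAct, wAct, permZ_mk, permZ_mk, permZ_mk, mkZ_eq]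
  refine ⟨B (iota v : PS (k + 1)) (iota u), ?_⟩
  rw [smul_smul, smul_smul, rE_mul (B_a0_iota u) (B_a0_iota v), ← iota_add,
    comm_of_fix (rE_iota_a0 (u + v))]

theorem rE_iota_conj {g : Sp (k + 1)} {h : Sp k} (hg : ap g a0 = a0)
    (hgh : ∀ w, ap g (iota w) = iota (ap h w)) (w : PS k) :
    g * rE a0 (iota w) = rE a0 (iota (ap h w)) * g := by
  rw [← mul_inv_eq_iff_eq_mul, rE_conj, hg, hgh]

theorem permZ_wAct {g : Sp (k + 1)} {h : Sp k} (hg : ap g a0 = a0)
    (hgh : ∀ w, ap g (iota w) = iota (ap h w)) (α : F) (w : PS k) :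
    permZ g hg α * (wAct α w : Equiv.Perm (Zs k Ω α)) = wAct α (ap h w) * permZ g hg α :=
  Equiv.ext fun s => by
    obtain ⟨y, hy, rfl⟩ := mkZ_surj s
    simp only [Equiv.Perm.mul_apply, wAct, permZ_mk]
    refine Subtype.ext ?_
    show orbX (F := F) (k := k) _ = orbX (F := F) (k := k) _
    rw [smul_smul, smul_smul, rE_iota_conj hg hgh]

theorem wAct_sym (α : F) (v : PS k) (x : F) : ∃ π : Equiv.Perm (Zs k Ω α),
    ∀ a, π * wAct α a = wAct α (ap (tr v x) a) * π :=
  ⟨permZ (tr (iota v) x) (tr_iota_a0 v x) α,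
    fun a => permZ_wAct (tr_iota_a0 v x) (fun w => tr_iota v w x) α a⟩

theorem mov_iff {α : F} {y : Ω} (h : Hits (k := k) α y) :
    Mov (F := F) (k := k) y ↔ ∃ w, wAct α w (mkZ h) ≠ mkZ h := by
  refine exists_congr fun w => ?_
  rw [wAct, permZ_mk, ne_comm, Ne, mkZ_eq, not_exists]
  exact forall_congr' fun z => ne_comm

open Classical in
theorem sum_card_le : ∑ α : F, Fintype.card (Zs k Ω α) +
    (Finset.univ.filter fun y : Ω => Full y (a0 : PS (k + 1))).card ≤ Fintype.card Ω := by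
  rw [card_eq_sum (actX_add (Ω := Ω) (a0 : PS (k + 1))),
    ← Fintype.sum_bijective wtF wtF_bijective (fun α => num (actX (Ω := Ω) (a0 : PS (k + 1))) (wtF α)) _
      (fun α => rfl),
    ← Finset.add_sum_erase _ _ (Finset.mem_univ (0 : F)),
    ← Finset.add_sum_erase _ _ (Finset.mem_univ (0 : F)), add_right_comm]
  refine Nat.add_le_add ?_ (Finset.sum_le_sum fun α hα => ?_)
  · rw [wtF_zero, num_one (actX_add _), ← Finset.card_univ (α := Zs k Ω 0),
      ← Finset.card_image_of_injective Finset.univ (Subtype.val_injective),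
      ← Finset.card_image_of_injective (Finset.univ.filter fun y : Ω => Full y (a0 : PS (k + 1)))
        (Finset.singleton_injective), ← Finset.card_union_of_disjoint]
    · refine Finset.card_le_card fun s hs => ?_
      rcases Finset.mem_union.mp hs with hs | hs
      · obtain ⟨⟨t, y, hy, e⟩, -, rfl⟩ := Finset.mem_image.mp hs
        exact Finset.mem_image.mpr ⟨y, Finset.mem_univ _, e⟩
      · obtain ⟨y, hy, rfl⟩ := Finset.mem_image.mp hs
        refine Finset.mem_image.mpr ⟨y, Finset.mem_univ _, Finset.ext fun z => ?_⟩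
        rw [mem_orb, Finset.mem_singleton]
        exact ⟨fun ⟨x, hx⟩ => hx ▸ (Finset.mem_filter.mp hy).2 x,
          fun hz => ⟨0, by rw [hz]; exact (Finset.mem_filter.mp hy).2 0⟩⟩
    · rw [Finset.disjoint_left]
      intro s hs hs'
      obtain ⟨⟨t, y, hy, e⟩, -, rfl⟩ := Finset.mem_image.mp hs
      obtain ⟨y', hy', e'⟩ := Finset.mem_image.mp hs'
      have hmem : y ∈ ({y'} : Finset Ω) := e'.trans e.symm ▸ mem_orb_self (actX_add a0) y
      rw [Finset.mem_singleton] at hmem
      exact hy.1 (hmem ▸ (Finset.mem_filter.mp hy').2)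
  · rw [← Finset.card_univ, ← Finset.card_image_of_injective Finset.univ (Subtype.val_injective)]
    refine Finset.card_le_card fun s hs => ?_
    obtain ⟨⟨t, y, hy, e⟩, -, rfl⟩ := Finset.mem_image.mp hs
    exact Finset.mem_image.mpr ⟨y, Finset.mem_filter.mpr ⟨Finset.mem_univ _, hy.2⟩, e⟩

end Cfsg.Agent.SpMinIndex
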