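import Cfsg.Agent.Lib.SpMinIndex.Orbits

/-!
The radical of a point stabiliser cannot act regularly without transvections in point stabilisers.
-/

set_option autoImplicit false
set_option linter.unusedSectionVars false
set_option maxHeartbeats 400000
set_option synthInstance.maxHeartbeats 100000

namespace Cfsg.Agent.SpMinIndex

open Matrix

variable {F : Type*} [Field F] [Fintype F] {k : ℕ}

local notation "PS" m => (Fin m ⊕ Fin m → F)
local notation "Sp" m => Matrix.symplecticGroup (Fin m) F
local notation "B" => FormsLib.spB _ F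

/-- The element of the radical of the base point over `u` with central part `z`. -/
noncomputable def qq (u : PS k) (z : F) : Sp (k + 1) := rE a0 (iota u) * tr a0 z

theorem qq_mul (u v : PS k) (z z' : F) : qq u z * qq v z' = qq (u + v) (z + z' + B v u) := by
  rw [qq, qq, qq, iota_add, mul_assoc, ← mul_assoc (tr a0 z), (rE_tr_commute (B_a0_iota v) z).eq,
    ← mul_assoc, ← mul_assoc, rE_mul (B_a0_iota u) (B_a0_iota v), B_iota, mul_assoc, mul_assoc, ← tr_add,
    ← tr_add]
  congr 2
  ring

theorem qq_zero : qq (0 : PS k) (0 : F) = 1 := by rw [qq, iota_zero, rE_zero, tr_zero, one_mul]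

theorem qq_inv (u : PS k) (z : F) : (qq u z)⁻¹ = qq (-u) (-z) :=
  inv_eq_of_mul_eq_one_right (by
    rw [qq_mul, add_neg_cancel, add_neg_cancel, map_neg, LinearMap.neg_apply, B_self, neg_zero, add_zero,
      qq_zero])

theorem qq_conj {g : Sp (k + 1)} {h : Sp k} (hg : ap g a0 = a0)
    (hgh : ∀ w, ap g (iota w) = iota (ap h w)) (u : PS k) (z : F) : g * qq u z = qq (ap h u) z * g := by
  rw [qq, qq, ← mul_assoc, rE_iota_conj hg hgh, mul_assoc, comm_of_fix hg, ← mul_assoc]

theorem tr_iota_qq (c : PS k) (x : F) (u : PS k) (z : F) :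
    tr (iota c) x * qq u z = qq (ap (tr c x) u) z * tr (iota c) x :=
  qq_conj (tr_iota_a0 c x) (fun w => tr_iota c w x) u z

variable {Ω : Type*} [MulAction (Matrix.symplecticGroup (Fin (k + 1)) F) Ω]

theorem qq_unique (huniq : ∀ (y : Ω) (w : PS k) (z : F), qq w z • y = y → w = 0 ∧ z = 0)
    {y : Ω} {u v : PS k} {z z' : F} (h : qq u z • y = qq v z' • y) : u = v ∧ z = z' := by
  have h1 : ((qq v z')⁻¹ * qq u z) • y = y := by rw [mul_smul, h, inv_smul_smul]
  rw [qq_inv, qq_mul] at h1
  obtain ⟨e1, e2⟩ := huniq y _ _ h1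
  have e : u = v := (neg_add_eq_zero.mp e1).symm
  subst e
  rw [map_neg, B_self, neg_zero, add_zero, neg_add_eq_zero] at e2
  exact ⟨rfl, e2.symm⟩

/-- A regular radical forces a transvection into a point stabiliser. -/
theorem regular_false (hk : 1 ≤ k) (hq : 3 ≤ Fintype.card F) (hexc : ¬ (k = 1 ∧ Fintype.card F = 3))
    [Nonempty Ω] (hfree : ∀ (y : Ω) (v : PS (k + 1)) (x : F), v ≠ 0 → tr v x • y = y → x = 0)
    (hreg : ∀ y y' : Ω, ∃ (w : PS k) (z : F), qq w z • y = y')
    (huniq : ∀ (y : Ω) (w : PS k) (z : F), qq w z • y = y → w = 0 ∧ z = 0) : False := by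
  classical
  obtain ⟨j, rfl⟩ : ∃ j, k = j + 1 := ⟨k - 1, by omega⟩
  obtain ⟨y₀⟩ := ‹Nonempty Ω›
  -- every element fixing the base point is a radical element times an element fixing the point
  have hlift : ∀ (y : Ω) (g : Sp (j + 1 + 1)), ∃ (u : PS (j + 1)) (z : F), (g * qq u z) • y = y := fun y g => by
    obtain ⟨u, z, h⟩ := hreg y (g⁻¹ • y)
    exact ⟨u, z, by rw [mul_smul, h, smul_inv_smul]⟩
  by_cases h2 : (2 : F) = 0
  · haveI : CharP F 2 := CharTwo.of_one_ne_zero_of_two_eq_zero one_ne_zero h2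
    set c : PS (j + 1) := a0 with hc
    obtain ⟨d, hd⟩ := exists_partner (u := c) a0_ne
    have hdc : B d c = 1 := by rw [B_swap c d, hd, CharTwo.neg_eq]
    obtain ⟨u, z, huz⟩ := hlift y₀ (tr (iota c) 1)
    have hgg : tr (iota c : PS (j + 1 + 1)) (1 : F) * tr (iota c) 1 = 1 := by
      rw [← tr_add, CharTwo.add_self_eq_zero, tr_zero]
    have hsq : qq (ap (tr c 1) u + u) (z + z + B u (ap (tr c 1) u)) • y₀ = y₀ := by
      have e : qq (ap (tr c 1) u + u) (z + z + B u (ap (tr c 1) u)) =
          (tr (iota c) 1 * qq u z) * (tr (iota c) 1 * qq u z) := by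
        rw [← qq_mul, ← mul_assoc, tr_iota_qq c 1 u z, mul_assoc (qq _ z), hgg, mul_one]
      rw [e, mul_smul, huz, huz]
    have huc : B u c = 0 := by
      obtain ⟨e, -⟩ := huniq _ _ _ hsq
      rw [tr_ap, one_mul, add_comm u, add_assoc, ← two_smul F, h2, zero_smul, add_zero, smul_eq_zero] at e
      exact e.resolve_right a0_ne
    have hperp : ∀ w, B c w = 0 → B u w = 0 := by
      intro w hcw
      by_cases hs : ∃ s : F, w = s • c
      · obtain ⟨s, rfl⟩ := hs
        rw [map_smul, huc, smul_zero]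
      push Not at hs
      obtain ⟨u', z', huz'⟩ := hlift y₀ (tr (iota w) 1)
      have e1 : (tr (iota c) 1 * qq u z) * (tr (iota w) 1 * qq u' z') =
          (tr (iota c) 1 * tr (iota w) 1) * qq (ap (tr w 1) u + u') (z + z' + B u' (ap (tr w 1) u)) := by
        have hconj : qq u z * tr (iota w) 1 = tr (iota w) 1 * qq (ap (tr w 1) u) z := by
          rw [tr_iota_qq, ← ap_mul, ← tr_add, CharTwo.add_self_eq_zero, tr_zero, ap_one]
        rw [mul_assoc, ← mul_assoc (qq u z), hconj, mul_assoc (tr (iota w) 1), qq_mul, ← mul_assoc]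
      have e2 : (tr (iota w) 1 * qq u' z') * (tr (iota c) 1 * qq u z) =
          (tr (iota c) 1 * tr (iota w) 1) * qq (ap (tr c 1) u' + u) (z' + z + B u (ap (tr c 1) u')) := by
        have hconj : qq u' z' * tr (iota c) 1 = tr (iota c) 1 * qq (ap (tr c 1) u') z' := by
          rw [tr_iota_qq, ← ap_mul, ← tr_add, CharTwo.add_self_eq_zero, tr_zero, ap_one]
        rw [mul_assoc, ← mul_assoc (qq u' z'), hconj, mul_assoc (tr (iota c) 1), qq_mul, ← mul_assoc,
          (tr_commute (by rw [B_iota, B_swap c w, hcw, neg_zero]) (1 : F) 1).eq]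
      have h3 : ((tr (iota c) 1 * qq u z) * (tr (iota w) 1 * qq u' z')) • y₀ =
          ((tr (iota w) 1 * qq u' z') * (tr (iota c) 1 * qq u z)) • y₀ := by
        rw [mul_smul, huz', huz, mul_smul, huz, huz']
      rw [e1, e2, mul_smul, mul_smul] at h3
      obtain ⟨e, -⟩ := qq_unique huniq (MulAction.injective _ (MulAction.injective _ (by
        simpa only [mul_smul] using h3)))
      rw [tr_ap, tr_ap, one_mul, one_mul] at e
      have e' : B u w • w = B u' c • c := by
        linear_combination (norm := module) e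
      by_contra hne
      exact hs ((B u w)⁻¹ * B u' c) (by rw [mul_smul, ← e', smul_smul, inv_mul_cancel₀ hne, one_smul])
    obtain ⟨lam, rfl⟩ := eq_smul_of_forall a0_ne hperp
    obtain ⟨σ, hσ⟩ : ∃ σ : F, σ * σ = z := by
      obtain ⟨s, hs⟩ := FiniteField.isSquare_of_char_two (F := F) (ringChar.eq_iff.mpr inferInstance) z
      exact ⟨s, hs.symm⟩
    have hzero : (tr (iota c) 1 * qq ((σ + lam) • c) 0) • qq (σ • d) 0 • y₀ = qq (σ • d) 0 • y₀ := by
      have e : tr (iota c) 1 * qq ((σ + lam) • c) 0 * qq (σ • d) 0 = qq (σ • d) 0 * (tr (iota c) 1 * qq (lam • c) z) := by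
        have hconj : qq (σ • d) 0 * tr (iota c) 1 = tr (iota c) 1 * qq (ap (tr c 1) (σ • d)) (0 : F) := by
          rw [tr_iota_qq, ← ap_mul, ← tr_add, CharTwo.add_self_eq_zero, tr_zero, ap_one]
        rw [← mul_assoc, hconj, mul_assoc, mul_assoc, qq_mul, qq_mul]
        congr 2
        · rw [tr_ap, map_smul, LinearMap.smul_apply, hdc, one_mul, smul_eq_mul, mul_one, add_smul]
          abel
        · simp only [tr_ap, map_add, map_smul, LinearMap.add_apply, LinearMap.smul_apply, smul_eq_mul, B_self,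
            hd, hdc, one_mul]
          linear_combination hσ
      rw [smul_smul, e, mul_smul, huz]
    set y := qq (σ • d) 0 • y₀
    set ν := σ + lam
    obtain ⟨g, hg⟩ := exists_map (F := F) (iota_ne_zero (k := j + 1) (w := c) a0_ne) a0_ne
    have hBca : B (iota c : PS (j + 1 + 1)) a0 = 0 := by rw [B_swap a0, B_a0_iota, neg_zero]
    have hga : B a0 (ap g (ν • a0)) = 0 := by
      have h5 : B (ap g (iota c)) (ap g (ν • a0)) = 0 := by rw [B_ap, map_smul, hBca, smul_zero]
      rwa [hg] at h5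
    obtain ⟨w, s, hw⟩ := exists_decomp hga
    have hfix : (g * (tr (iota c) 1 * qq (ν • c) 0) * g⁻¹) • g • y = g • y := by
      rw [mul_smul, inv_smul_smul, mul_smul, hzero]
    have e : g * (tr (iota c) 1 * qq (ν • c) 0) * g⁻¹ = qq w 1 := by
      have e0 : g * rE a0 (iota (ν • c)) * g⁻¹ = rE a0 (iota w) := by
        rw [iota_smul, rE_smul_swap (B_a0_iota c), rE_conj, hg, hw]
        have h5 := rE_mul (u := iota w) (u' := s • a0) (B_a0_iota w) (by rw [map_smul, B_self, smul_zero])
        rw [rE_smul_self, h2, zero_mul, tr_zero, mul_one, map_smul, LinearMap.smul_apply, B_a0_iota, smul_zero,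
          tr_zero, mul_one] at h5
        exact h5.symm
      rw [qq, tr_zero, mul_one, show g * (tr (iota c) 1 * rE a0 (iota (ν • c))) * g⁻¹ =
        (g * tr (iota c) 1 * g⁻¹) * (g * rE a0 (iota (ν • c)) * g⁻¹) by group, tr_conj, hg, e0, qq,
        (rE_tr_commute (B_a0_iota w) 1).eq]
    rw [e] at hfix
    exact one_ne_zero (huniq _ _ _ hfix).2
  -- odd characteristic
  let J : (PS (j + 1 + 1)) →ₗ[F] (PS (j + 1 + 1)) :=
    -LinearMap.id + (2 : F) • ((B).flip f0).smulRight a0 - (2 : F) • ((B).flip a0).smulRight f0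
  have hJ : ∀ x, J x = -x + (2 : F) • B x f0 • a0 - (2 : F) • B x a0 • f0 := fun x => by simp [J]
  have hfa : B (f0 : PS (j + 1 + 1)) a0 = -1 := by rw [B_swap a0, B_a0_f0]
  have hJiso : ∀ u v, B (J u) (J v) = B u v := fun u v => by
    simp only [hJ, map_add, map_sub, map_neg, map_smul, LinearMap.add_apply, LinearMap.sub_apply,
      LinearMap.neg_apply, LinearMap.smul_apply, smul_eq_mul, B_self, B_a0_f0, hfa, B_swap v a0, B_swap v f0]
    ring
  set jj := ofMap J hJiso with hjj
  have hja : ap jj a0 = a0 := by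
    rw [hjj, ofMap_ap, hJ, B_a0_f0, B_self, zero_smul, smul_zero, sub_zero, one_smul]
    module
  have hji : ∀ w, ap jj (iota w) = iota (-w) := fun w => by
    rw [hjj, ofMap_ap, hJ, B_swap f0, B_f0_iota, B_swap a0, B_a0_iota, neg_zero, zero_smul, zero_smul,
      smul_zero, sub_zero, add_zero, ← neg_one_smul F (iota w), ← iota_smul, neg_one_smul]
  have hjq : ∀ (u : PS (j + 1)) (z : F), jj * qq u z = qq (-u) z * jj := fun u z => by
    have h1 : jj * rE a0 (iota u) = rE a0 (iota (-u)) * jj := by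
      rw [← mul_inv_eq_iff_eq_mul, rE_conj, hja, hji]
    rw [qq, qq, ← mul_assoc, h1, mul_assoc, comm_of_fix hja, ← mul_assoc]
  have hjj2 : jj * jj = 1 := ext_ap fun x => by
    rw [ap_mul, ap_one, hjj, ofMap_ap, ofMap_ap, hJ (J x), hJ]
    simp only [map_add, map_sub, map_neg, map_smul, LinearMap.add_apply, LinearMap.sub_apply,
      LinearMap.neg_apply, LinearMap.smul_apply, smul_eq_mul, B_self, B_a0_f0, hfa]
    module
  obtain ⟨u, z, hjy⟩ := hlift y₀ jj
  have hz : z = 0 := by
    have e : jj * qq u z * (jj * qq u z) = qq 0 (2 * z) := by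
      rw [← mul_assoc, mul_assoc jj (qq u z), ← neg_neg u, ← hjq, neg_neg, ← mul_assoc, hjj2, one_mul, qq_mul,
        neg_add_cancel, map_neg, B_self, neg_zero, add_zero, ← two_mul]
    have h3 : qq (0 : PS (j + 1)) (2 * z) • y₀ = y₀ := by rw [← e, mul_smul, hjy, hjy]
    exact (mul_eq_zero.mp (huniq _ _ _ h3).2).resolve_left h2
  subst hz
  obtain ⟨y, hjy'⟩ : ∃ y : Ω, jj • y = y := by
    refine ⟨qq ((2 : F)⁻¹ • u) 0 • y₀, ?_⟩
    rw [smul_smul, hjq, mul_smul]
    have e : jj • y₀ = qq u 0 • y₀ := by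
      conv_lhs => rw [← hjy]
      rw [smul_smul, ← mul_assoc, hjj2, one_mul]
    rw [e, smul_smul, qq_mul]
    congr 2
    · rw [← sub_eq_neg_add, sub_eq_iff_eq_add, ← two_smul F, smul_smul, mul_inv_cancel₀ h2, one_smul]
    · simp [B_self]
  -- elements lifting the transvections
  have hT : ∀ (c : PS (j + 1)) (x : F), ∃ z : F, (tr (iota c) x * tr a0 z) • y = y := by
    intro c x
    obtain ⟨w, z, hw⟩ := hlift y (tr (iota c) x)
    have hcomm : jj * tr (iota c) x = tr (iota c) x * jj := by
      rw [← mul_inv_eq_iff_eq_mul, tr_conj, hji, ← neg_one_smul F c, iota_smul, tr_smul]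
      congr 1
      ring
    have h3 : (jj * (tr (iota c) x * qq w z) * jj) • y = y := by
      rw [mul_smul, hjy', mul_smul, hw, hjy']
    rw [← mul_assoc, hcomm, mul_assoc (tr (iota c) x), hjq, mul_assoc, mul_assoc, hjj2, mul_one,
      mul_smul] at h3
    have h4 : qq (-w) z • y = qq w z • y :=
      MulAction.injective (tr (iota c) x) (h3.trans (by
        show _ = tr (iota c) x • qq w z • y
        rw [← mul_smul, hw]))
    obtain ⟨e, -⟩ := qq_unique huniq h4
    have hw0 : w = 0 := by
      rw [neg_eq_iff_add_eq_zero, ← two_smul F, smul_eq_zero] at e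
      exact e.resolve_left h2
    refine ⟨z, ?_⟩
    rwa [hw0, qq, iota_zero, rE_zero, one_mul] at hw
  choose Z hZ using hT
  have hqz : ∀ z : F, tr (a0 : PS (j + 1 + 1)) z = qq 0 z := fun z => by rw [qq, iota_zero, rE_zero, one_mul]
  have hu : ∀ {c : PS (j + 1)} {x z : F}, (tr (iota c) x * tr a0 z) • y = y → Z c x = z := by
    intro c x z h
    have h1 : tr (a0 : PS (j + 1 + 1)) (Z c x) • y = tr (a0 : PS (j + 1 + 1)) z • y :=
      MulAction.injective (tr (iota c) x) (by
        show tr (iota c) x • _ = tr (iota c) x • _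
        rw [smul_smul, smul_smul, hZ, h])
    rw [hqz, hqz] at h1
    exact (qq_unique huniq h1).2
  have hcf : ∀ (c : PS (j + 1)) (x z : F), tr a0 z * tr (iota c) x = tr (iota c) x * tr (a0 : PS (j + 1 + 1)) z :=
    fun c x z => (comm_of_fix (tr_iota_a0 c x) z).symm
  have hZadd : ∀ c x x', Z c (x + x') = Z c x + Z c x' := fun c x x' => hu (by
    rw [tr_add, tr_add, mul_assoc, ← mul_assoc (tr (iota c) x'), ← hcf, mul_assoc, ← mul_assoc, mul_smul,
      hZ, hZ])
  have hZconj : ∀ c x c' x', Z (ap (tr c' x') c) x = Z c x := fun c x c' x' => hu (by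
    have e : tr (iota (ap (tr c' x') c)) x * tr a0 (Z c x) =
        (tr (iota c') x' * tr a0 (Z c' x')) * (tr (iota c) x * tr a0 (Z c x)) *
          (tr (iota c') x' * tr a0 (Z c' x'))⁻¹ := by
      have h5 : Commute (tr (a0 : PS (j + 1 + 1)) (Z c' x')) (tr (iota c) x * tr a0 (Z c x)) :=
        Commute.mul_right (hcf c x _) ((tr_commute (B_self a0) _ _))
      rw [show (tr (iota c') x' * tr a0 (Z c' x')) * (tr (iota c) x * tr a0 (Z c x)) *
          (tr (iota c') x' * tr a0 (Z c' x'))⁻¹ = tr (iota c') x' *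
          (tr a0 (Z c' x') * (tr (iota c) x * tr a0 (Z c x)) * (tr a0 (Z c' x'))⁻¹) *
          (tr (iota c') x')⁻¹ by group, h5.eq, mul_inv_cancel_right, ← tr_iota, ← tr_conj,
        show tr (iota c') x' * (tr (iota c) x * tr a0 (Z c x)) * (tr (iota c') x')⁻¹ =
          tr (iota c') x' * tr (iota c) x * (tr (iota c') x')⁻¹ *
            (tr (iota c') x' * tr a0 (Z c x) * (tr (iota c') x')⁻¹) by group,
        tr_conj (tr (iota c') x') a0, tr_iota_a0]
    rw [e, mul_smul, mul_smul, inv_smul_eq_iff.mpr (hZ c' x').symm, hZ, hZ])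
  have hconst : ∀ c c', c ≠ 0 → c' ≠ 0 → ∀ x, Z c x = Z c' x := fun c c' hc hc' x =>
    (tr_connected (P := fun d => Z d x = Z c x) (fun v t d hd => (hZconj d x v t).trans hd) hc hc' rfl).symm
  have hsq : ∀ c, c ≠ 0 → ∀ s x : F, s ≠ 0 → Z c (s * s * x) = Z c x := fun c hc s x hs => by
    rw [← hconst (s • c) c (smul_ne_zero hs hc) hc x]
    exact hu (by
      have := hZ (s • c) x
      rwa [iota_smul, tr_smul] at this)
  have hZ0 : ∀ c, c ≠ 0 → ∀ x, Z c x = 0 := by
    intro c hc x
    by_cases hq3 : Fintype.card F = 3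
    · obtain ⟨i, rfl⟩ : ∃ i, j = i + 1 := ⟨j - 1, by
        rcases Nat.eq_zero_or_pos j with rfl | h
        · exact absurd ⟨rfl, hq3⟩ hexc
        · omega⟩
      set c0 : PS (i + 1 + 1) := a0
      set d0 : PS (i + 1 + 1) := iota a0
      have hcd : B c0 d0 = 0 := B_a0_iota _
      have hne : ∀ s : F, s • d0 ≠ c0 := fun s e => by
        have := congrFun e (Sum.inr 0)
        simp [c0, d0, iota, a0] at this
      have hp : c0 + d0 ≠ 0 := fun e => hne (-1) (by
        rw [neg_one_smul]; exact (eq_neg_of_add_eq_zero_left e).symm)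
      have hm : c0 - d0 ≠ 0 := fun e => hne 1 (by rw [one_smul]; exact (sub_eq_zero.mp e).symm)
      have key : Z (c0 + d0) x + Z (c0 - d0) x = Z c0 (2 * x) + Z d0 (2 * x) := by
        have e : tr (iota (c0 + d0)) x * tr (iota (c0 - d0)) x =
            tr (iota c0) (2 * x) * tr (iota d0 : PS (i + 1 + 1 + 1)) (2 * x) := by
          refine ext_ap fun v => ?_
          have h7 : B (iota c0 : PS (i + 1 + 1 + 1)) (iota d0) = 0 := by rw [B_iota, hcd]
          rw [show iota (c0 - d0) = iota c0 + (-1 : F) • iota d0 by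
            rw [← iota_smul, ← iota_add, neg_one_smul, sub_eq_add_neg], iota_add]
          funext t
          simp only [ap_mul, tr_ap, map_add, map_smul, LinearMap.add_apply, LinearMap.smul_apply, B_self,
            B_swap (iota c0) (iota d0), h7, neg_zero, smul_zero, add_zero, smul_eq_mul, Pi.add_apply,
            Pi.smul_apply]
          ring
        have h8 : (tr (iota c0) (2 * x) * tr (iota d0) (2 * x) *
            tr a0 (Z (c0 + d0) x + Z (c0 - d0) x)) • y = y := by
          rw [← e, tr_add, mul_assoc, ← mul_assoc (tr (iota (c0 - d0)) x), ← hcf, mul_assoc, ← mul_assoc,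
            mul_smul, hZ, hZ]
        have h9 : (tr (iota c0) (2 * x) * tr (iota d0) (2 * x) *
            tr a0 (Z c0 (2 * x) + Z d0 (2 * x))) • y = y := by
          rw [tr_add, mul_assoc, ← mul_assoc (tr (iota d0) (2 * x)), ← hcf, mul_assoc, ← mul_assoc,
            mul_smul, hZ, hZ]
        rw [mul_smul] at h8 h9
        have h10 := MulAction.injective _ (h8.trans h9.symm)
        rw [hqz, hqz] at h10
        exact (qq_unique huniq h10).2
      have hd0 : d0 ≠ 0 := iota_ne_zero a0_ne
      rw [hconst _ _ hp hc, hconst _ _ hm hc, hconst c0 c a0_ne hc, hconst _ _ hd0 hc, two_mul x, hZadd] at key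
      have : 2 * Z c x = 0 := by linear_combination -key
      exact (mul_eq_zero.mp this).resolve_left h2
    · obtain ⟨s, hs0, hs1, hs2⟩ : ∃ s : F, s ≠ 0 ∧ s ≠ 1 ∧ s ≠ -1 := by
        by_contra! h
        have hsub : (Finset.univ : Finset F) ⊆ {0, 1, -1} := fun x _ => by
          rcases eq_or_ne x 0 with rfl | h0
          · simp
          rcases eq_or_ne x 1 with rfl | h1
          · simp
          simp [h x h0 h1]
        have := Finset.card_le_card hsub
        rw [Finset.card_univ] at this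
        have := Finset.card_le_three (a := (0 : F)) (b := 1) (c := -1)
        omega
      have hs : s * s - 1 ≠ 0 := fun e => by
        rcases mul_self_eq_one_iff.mp (sub_eq_zero.mp e) with e | e
        · exact hs1 e
        · exact hs2 e
      have h1 := hsq c hc s (x / (s * s - 1)) hs0
      rw [show s * s * (x / (s * s - 1)) = x + x / (s * s - 1) by
        linear_combination div_mul_cancel₀ x hs, hZadd] at h1
      exact add_eq_right.mp h1
  have := hZ (a0 : PS (j + 1)) 1
  rw [hZ0 _ a0_ne, tr_zero, mul_one] at this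
  exact one_ne_zero (hfree y _ 1 (iota_ne_zero a0_ne) this)

end Cfsg.Agent.SpMinIndex
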