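import Cfsg.Agent.Lib.SpMinIndex.Cases

/-!
If a point has many full vectors then all vectors are full.
-/

set_option autoImplicit false
set_option linter.unusedSectionVars false
set_option maxHeartbeats 400000
set_option synthInstance.maxHeartbeats 100000

namespace Cfsg.Agent.SpMinIndex

open Matrix

variable {F : Type*} [Field F] [Fintype F] {m k : ℕ}

local notation "PS" m => (Fin m ⊕ Fin m → F)
local notation "Sp" m => Matrix.symplecticGroup (Fin m) F
local notation "B" => FormsLib.spB _ F

open Classical in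
/-- A subspace orthogonal to a non-zero vector outside it is small. -/
theorem card_le_of_perp (S : Submodule F (PS (k + 1))) {t : PS (k + 1)} (ht : t ≠ 0)
    (hS : ∀ s ∈ S, B t s = 0) (htS : t ∉ S) :
    (Finset.univ.filter fun v => v ∈ S).card ≤ Fintype.card F ^ (2 * k) := by
  obtain ⟨g, hg⟩ := exists_map (F := F) ht a0_ne
  set q := Fintype.card F with hq
  have h : q * (Finset.univ.filter fun v => v ∈ S).card ≤ q * q ^ (2 * k) := by
    calc q * (Finset.univ.filter fun v => v ∈ S).card
        = ((Finset.univ : Finset F) ×ˢ (Finset.univ.filter fun v => v ∈ S)).card := by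
          rw [Finset.card_product, Finset.card_univ]
      _ ≤ (((Finset.univ : Finset F) ×ˢ (Finset.univ : Finset (PS k))).image
            fun p => iota p.2 + p.1 • a0).card := by
          refine Finset.card_le_card_of_injOn (fun p => ap g (p.2 + p.1 • t)) (fun p hp => ?_) ?_
          · have hp2 := (Finset.mem_filter.mp (Finset.mem_product.mp hp).2).2
            obtain ⟨w, z, e⟩ := exists_decomp (x := ap g (p.2 + p.1 • t)) (by
              rw [← hg, B_ap, map_add, map_smul, hS _ hp2, B_self, smul_zero, add_zero])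
            exact Finset.mem_image.mpr
              ⟨(z, w), Finset.mem_product.mpr ⟨Finset.mem_univ _, Finset.mem_univ _⟩, e.symm⟩
          · intro p hp p' hp' e
            have e' : p.2 + p.1 • t = p'.2 + p'.1 • t := ap_injective g e
            have h1 : p.1 = p'.1 := by
              by_contra hne
              have h2 : (p.1 - p'.1) • t ∈ S := by
                rw [sub_smul, show p.1 • t - p'.1 • t = p'.2 - p.2 by
                  linear_combination (norm := abel) e']
                exact S.sub_mem (Finset.mem_filter.mp (Finset.mem_product.mp hp').2).2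
                  (Finset.mem_filter.mp (Finset.mem_product.mp hp).2).2
              have := S.smul_mem (p.1 - p'.1)⁻¹ h2
              rw [smul_smul, inv_mul_cancel₀ (sub_ne_zero.mpr hne), one_smul] at this
              exact htS this
            rw [h1, add_left_inj] at e'
            exact Prod.ext h1 e'
      _ ≤ _ := Finset.card_image_le
      _ = q * q ^ (2 * k) := by
          rw [Finset.card_product, Finset.card_univ, Finset.card_univ, Fintype.card_fun, Fintype.card_sum,
            Fintype.card_fin, two_mul]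
  exact Nat.le_of_mul_le_mul_left h Fintype.card_pos

theorem perp_proj {S : Submodule F (PS m)} (hS : S ⊓ perp S = ⊥) (x : PS m) :
    ∃ s ∈ S, x - s ∈ perp S := by
  classical
  let Φ : S →ₗ[F] Module.Dual F S :=
    LinearMap.mk₂ F (fun (s t : S) => B (s : PS m) (t : PS m))
      (fun a b c => by simp) (fun r a b => by simp) (fun a b c => by simp) (fun r a b => by simp)
  have hinj : Function.Injective Φ := by
    rw [← LinearMap.ker_eq_bot, Submodule.eq_bot_iff]
    intro s hs
    refine Subtype.ext ((Submodule.eq_bot_iff _).mp hS s.1 ⟨s.2, fun r hr => ?_⟩)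
    have h1 := LinearMap.congr_fun (LinearMap.mem_ker.mp hs) ⟨r, hr⟩
    change B (s : PS m) r = 0 at h1
    rw [B_swap (s : PS m) r, h1, neg_zero]
  obtain ⟨s, hs⟩ := (LinearMap.injective_iff_surjective_of_finrank_eq_finrank
    (f := Φ) Subspace.dual_finrank_eq.symm).mp hinj ((B x).comp S.subtype)
  refine ⟨s, s.2, fun r hr => ?_⟩
  have h1 := LinearMap.congr_fun hs ⟨r, hr⟩
  change B (s : PS m) r = B x r at h1
  rw [map_sub, B_swap x r, B_swap (s : PS m) r, h1, sub_self]

/-- There is a scalar avoiding two values. -/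
theorem exists_avoid (hq : 3 ≤ Fintype.card F) (u v : F) : ∃ x, x ≠ u ∧ x ≠ v := by
  classical
  by_contra! h
  have hsub : (Finset.univ : Finset F) ⊆ {u, v} := fun x _ => by
    rcases eq_or_ne x u with rfl | hx
    · simp
    · simp [h x hx]
  have := Finset.card_le_card hsub
  rw [Finset.card_univ] at this
  have := Finset.card_le_two (a := u) (b := v)
  omega

variable {Ω : Type*} [MulAction (Matrix.symplecticGroup (Fin (k + 1)) F) Ω] {y : Ω}

open Classical in
/-- A point with many full vectors is fixed by every transvection group. -/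
theorem all_full (hP : NoPar (k + 1) F Ω) (hq : 3 ≤ Fintype.card F)
    (hbig : (Fintype.card F - 1) * Fintype.card F ^ (2 * k) <
      (Finset.univ.filter fun v : PS (k + 1) => v ≠ 0 ∧ Full y v).card) :
    ∀ v : PS (k + 1), Full y v := by
  set q := Fintype.card F with hq'
  set Q := q ^ (2 * k) with hQ
  have hQ0 : 0 < Q := pow_pos (by omega) _
  -- sums of full vectors
  have hsum : ∀ {a c e : PS (k + 1)}, Full y a → Full y c → Full y e → B a c = 0 → B e a ≠ 0 → B e c ≠ 0 →
      B e a + B e c ≠ 0 → Full y (a + c) := by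
    intro a c e ha hc he hac hea hec hs
    have h1 : Full y (a + e) := full_add_of_ne ha he (by rw [B_swap e a]; exact neg_ne_zero.mpr hea)
    have h2 : Full y (c + (-1 : F) • e) := full_add_of_ne hc (full_smul he _) (by
      rw [map_smul, B_swap e c, smul_eq_mul, neg_one_mul, neg_neg]; exact hec)
    have h3 := full_add_of_ne h1 h2 (by
      simp only [map_add, map_smul, LinearMap.add_apply, smul_eq_mul, neg_one_mul, B_self, hac, B_swap e a]
      simpa [add_comm] using hs)
    have e' : a + e + (c + (-1 : F) • e) = a + c := by rw [neg_one_smul]; abel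
    rwa [e'] at h3
  set SP := Submodule.span F {v : PS (k + 1) | Full y v} with hSP
  have hinv : ∀ g : Sp (k + 1), g • y = y → ∀ v ∈ SP, ap g v ∈ SP := by
    intro g hg v hv
    induction hv using Submodule.span_induction with
    | mem x hx => exact Submodule.subset_span (full_map hx hg)
    | zero => rw [ap_zero]; exact SP.zero_mem
    | add x z _ _ hx hz => rw [ap_add]; exact SP.add_mem hx hz
    | smul r x _ hx => rw [ap_smul]; exact SP.smul_mem r hx
  -- the full vectors span
  have hspan : ∀ w : PS (k + 1), (∀ v, Full y v → B v w = 0) → w = 0 := by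
    by_contra! h
    obtain ⟨t, ht, ht0⟩ := h
    have htperp : t ∈ perp SP := fun r hr => by
      induction hr using Submodule.span_induction with
      | mem x hx => exact ht x hx
      | zero => simp
      | add x z _ _ hx hz => rw [map_add, LinearMap.add_apply, hx, hz, add_zero]
      | smul r x _ hx => rw [map_smul, LinearMap.smul_apply, hx, smul_zero]
    have htS : t ∉ SP := fun h => ht0 ((Submodule.eq_bot_iff _).mp (radical_eq_bot hP hinv) t ⟨h, htperp⟩)
    have h1 : _ ≤ Q := card_le_of_perp SP ht0 (fun s hs => by rw [B_swap s t, htperp s hs, neg_zero]) htS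
    have h2 : (Finset.univ.filter fun v : PS (k + 1) => v ≠ 0 ∧ Full y v).card ≤
        (Finset.univ.filter fun v => v ∈ SP).card := Finset.card_le_card fun v hv =>
      Finset.mem_filter.mpr ⟨Finset.mem_univ _, Submodule.subset_span (Finset.mem_filter.mp hv).2.2⟩
    have : Q ≤ (q - 1) * Q := Nat.le_mul_of_pos_left _ (by omega)
    omega
  -- full subspaces with trivial radical
  let Good : Submodule F (PS (k + 1)) → Prop := fun S => (∀ v ∈ S, Full y v) ∧ S ⊓ perp S = ⊥ ∧ S ≠ ⊥
  have hstart : ∃ S, Good S := by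
    obtain ⟨a, ha0, ha⟩ : ∃ a : PS (k + 1), a ≠ 0 ∧ Full y a := by
      obtain ⟨a, ha⟩ := Finset.card_pos.mp (lt_of_le_of_lt (Nat.zero_le _) hbig)
      exact ⟨a, (Finset.mem_filter.mp ha).2⟩
    obtain ⟨e, he, hea⟩ : ∃ e, Full y e ∧ B e a ≠ 0 := by
      by_contra! h
      exact ha0 (hspan a h)
    have hae : B a e ≠ 0 := by rw [B_swap e a]; exact neg_ne_zero.mpr hea
    refine ⟨Submodule.span F {a, e}, fun v hv => ?_, ?_, ?_⟩
    · obtain ⟨α, β, rfl⟩ := Submodule.mem_span_pair.mp hv
      rcases eq_or_ne α 0 with rfl | hα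
      · rw [zero_smul, zero_add]; exact full_smul he _
      rcases eq_or_ne β 0 with rfl | hβ
      · rw [zero_smul, add_zero]; exact full_smul ha _
      exact full_add_of_ne (full_smul ha _) (full_smul he _) (by
        simp only [map_smul, LinearMap.smul_apply, smul_eq_mul]
        exact mul_ne_zero hβ (mul_ne_zero hα hae))
    · refine (Submodule.eq_bot_iff _).mpr fun v ⟨hv, hv'⟩ => ?_
      obtain ⟨α, β, rfl⟩ := Submodule.mem_span_pair.mp hv
      have h1 := hv' a (Submodule.subset_span (by simp))
      have h2 := hv' e (Submodule.subset_span (by simp))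
      simp only [map_add, map_smul, B_self, smul_eq_mul, mul_zero, zero_add, add_zero, mul_eq_zero, hae,
        hea, or_false] at h1 h2
      rw [h1, h2, zero_smul, zero_smul, add_zero]
    · exact (Submodule.ne_bot_iff _).mpr ⟨a, Submodule.subset_span (by simp), ha0⟩
  let nS : Submodule F (PS (k + 1)) → ℕ := fun S => (Finset.univ.filter fun v => v ∈ S).card
  obtain ⟨S, hS, hmax⟩ : ∃ S, Good S ∧ ∀ S', Good S' → nS S' ≤ nS S := by
    haveI : Finite (Submodule F (PS (k + 1))) :=
      Finite.of_injective (fun S => (S : Set (PS (k + 1)))) SetLike.coe_injective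
    haveI : Nonempty {S // Good S} := ⟨⟨_, hstart.choose_spec⟩⟩
    obtain ⟨⟨S, hS⟩, h⟩ := Finite.exists_max fun S : {S // Good S} => nS S.1
    exact ⟨S, hS, fun S' hS' => h ⟨S', hS'⟩⟩
  obtain ⟨hSfull, hSrad, hSne⟩ := hS
  by_cases htop : S = ⊤
  · exact fun v => hSfull v (htop ▸ Submodule.mem_top)
  exfalso
  obtain ⟨t, htp, ht0⟩ := (Submodule.ne_bot_iff _).mp (exists_perp_ne_zero htop)
  obtain ⟨s₁, hs₁, hs₁0⟩ := (Submodule.ne_bot_iff _).mp hSne
  have hboth : ∀ x, x ∈ S → x ∈ perp S → x = 0 := fun x h1 h2 =>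
    (Submodule.eq_bot_iff _).mp hSrad x ⟨h1, h2⟩
  by_cases hout : ∀ e, Full y e → e ∈ S ∨ e ∈ perp S
  · have h1 : _ ≤ Q := card_le_of_perp S ht0 (fun s hs => by rw [B_swap s t, htp s hs, neg_zero])
      (fun h => ht0 (hboth t h htp))
    have h2 : _ ≤ Q := card_le_of_perp (perp S) hs₁0 (fun w hw => hw s₁ hs₁) (fun h => hs₁0 (hboth s₁ hs₁ h))
    have h3 : (Finset.univ.filter fun v : PS (k + 1) => v ≠ 0 ∧ Full y v).card ≤
        (Finset.univ.filter fun v => v ∈ S).card + (Finset.univ.filter fun v => v ∈ perp S).card := by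
      refine (Finset.card_le_card fun v hv => ?_).trans (Finset.card_union_le _ _)
      rcases hout v (Finset.mem_filter.mp hv).2.2 with h | h <;> simp [h]
    have : 2 * Q ≤ (q - 1) * Q := Nat.mul_le_mul_right _ (by omega)
    omega
  push Not at hout
  obtain ⟨e, he, heS, heP⟩ := hout
  obtain ⟨s₀, hs₀, hrP⟩ := perp_proj hSrad e
  set r := e - s₀ with hr
  have hr0 : r ≠ 0 := fun h => heS (by rw [sub_eq_zero.mp h]; exact hs₀)
  have hs00 : s₀ ≠ 0 := fun h => heP (by
    have := hrP
    rwa [hr, h, sub_zero] at this)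
  have hnd : ∀ x ∈ S, x ≠ 0 → ∃ x' ∈ S, B x x' ≠ 0 := by
    intro x hx hx0
    by_contra! h
    exact hx0 (hboth x hx fun s hs => by rw [B_swap x s, h s hs, neg_zero])
  have hrS : ∀ x ∈ S, B x r = 0 := fun x hx => hrP x hx
  -- vectors outside the line of r
  have hone : ∀ x ∈ S, x ≠ 0 → ∀ c : F, Full y (x + c • r) := by
    have hdir : ∀ x ∈ S, B s₀ x ≠ 0 → ∀ c : F, Full y (x + c • r) := by
      intro x hx hb c
      rcases eq_or_ne c 0 with rfl | hc
      · rw [zero_smul, add_zero]; exact hSfull x hx
      have h1 : Full y (c • e + (x - c • s₀)) :=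
        full_add_of_ne (full_smul he c) (hSfull _ (S.sub_mem hx (S.smul_mem c hs₀))) (by
          rw [show e = s₀ + r by rw [hr]; abel]
          simp only [map_add, map_sub, map_smul, LinearMap.add_apply, LinearMap.smul_apply, smul_eq_mul,
            B_self, B_swap x r, hrS x hx, B_swap s₀ r, hrS s₀ hs₀, neg_zero, add_zero, mul_zero, sub_zero]
          exact mul_ne_zero hc hb)
      rwa [show c • e + (x - c • s₀) = x + c • r by rw [hr, smul_sub]; abel] at h1
    intro x hx hx0 c
    by_cases hb : B s₀ x = 0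
    swap
    · exact hdir x hx hb c
    obtain ⟨u, hu, hu'⟩ := hnd s₀ hs₀ hs00
    obtain ⟨v, hv, hv'⟩ := hnd x hx hx0
    obtain ⟨x', hx', hb1, hb2⟩ : ∃ x' ∈ S, B s₀ x' ≠ 0 ∧ B x x' ≠ 0 := by
      by_cases h1 : B x u = 0
      · by_cases h2 : B s₀ v = 0
        · exact ⟨u + v, S.add_mem hu hv, by rwa [map_add, h2, add_zero], by rwa [map_add, h1, zero_add]⟩
        · exact ⟨v, hv, h2, hv'⟩
      · exact ⟨u, hu, hu', h1⟩
    have h1 := full_add_of_ne (hdir x' hx' hb1 c) (hSfull _ (S.sub_mem hx hx')) (by
      simp only [map_add, map_sub, map_smul, LinearMap.add_apply, LinearMap.smul_apply, smul_eq_mul,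
        B_self, B_swap x r, hrS x hx, B_swap x' r, hrS x' hx', neg_zero, sub_zero, mul_zero, add_zero]
      rw [B_swap x x']
      exact neg_ne_zero.mpr hb2)
    rwa [show x' + c • r + (x - x') = x + c • r by abel] at h1
  obtain ⟨e₂, he₂, he₂r⟩ : ∃ e₂, Full y e₂ ∧ B e₂ r ≠ 0 := by
    by_contra! h
    exact hr0 (hspan r h)
  have hre₂ : B r e₂ ≠ 0 := by rw [B_swap e₂ r]; exact neg_ne_zero.mpr he₂r
  have hrfull : Full y r := by
    by_cases hperp2 : ∀ x ∈ S, B e₂ x = 0
    · obtain ⟨x₀, hx₀, hxx⟩ := hnd s₁ hs₁ hs₁0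
      obtain ⟨σ, hσ0, hσ1⟩ := exists_avoid hq 0 (-(B e₂ r) / B s₁ x₀)
      have hσx : σ • x₀ ∈ S := S.smul_mem σ hx₀
      have hs : Full y (r + s₁) := by have := hone s₁ hs₁ hs₁0 1; rwa [one_smul, add_comm s₁ r] at this
      have he' : Full y (e₂ + (r + s₁)) := full_add_of_ne he₂ hs (by rw [map_add, hperp2 _ hs₁, add_zero]; exact he₂r)
      have hx0 : x₀ ≠ 0 := fun h => hxx (by rw [h, map_zero])
      have hxs : σ • x₀ ≠ 0 := smul_ne_zero hσ0 hx0
      have ha : Full y (r + σ • x₀) := by have := hone _ hσx hxs 1; rwa [one_smul, add_comm (σ • x₀) r] at this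
      have h := hsum ha (hSfull _ (S.neg_mem hσx)) he' (by
          simp [B_self, B_swap x₀ r, hrS x₀ hx₀]) ?_ ?_ ?_
      · rwa [add_neg_cancel_right] at h
      all_goals
        simp only [map_add, map_neg, map_smul, LinearMap.add_apply, smul_eq_mul, B_self, hperp2 x₀ hx₀,
          hperp2 s₁ hs₁, hrS x₀ hx₀, hrS s₁ hs₁, B_swap x₀ r, neg_zero, mul_zero, add_zero, zero_add]
      · intro h
        refine hσ1 ?_
        field_simp
        linear_combination h
      · exact neg_ne_zero.mpr (mul_ne_zero hσ0 hxx)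
      · ring_nf
        exact he₂r
    · push Not at hperp2
      obtain ⟨x₀, hx₀, hxx⟩ := hperp2
      obtain ⟨σ, hσ0, hσ1⟩ := exists_avoid hq 0 (-(B e₂ r) / B e₂ x₀)
      have hσx : σ • x₀ ∈ S := S.smul_mem σ hx₀
      have hx0 : x₀ ≠ 0 := fun h => hxx (by rw [h, map_zero])
      have ha : Full y (r + σ • x₀) := by
        have := hone _ hσx (smul_ne_zero hσ0 hx0) 1; rwa [one_smul, add_comm (σ • x₀) r] at this
      have h := hsum ha (hSfull _ (S.neg_mem hσx)) he₂ (by
          simp [B_self, B_swap x₀ r, hrS x₀ hx₀]) ?_ ?_ ?_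
      · rwa [add_neg_cancel_right] at h
      all_goals simp only [map_add, map_neg, map_smul, smul_eq_mul]
      · intro h
        refine hσ1 ?_
        field_simp
        linear_combination h
      · exact neg_ne_zero.mpr (mul_ne_zero hσ0 hxx)
      · ring_nf
        exact he₂r
  have hSr : ∀ x ∈ S, ∀ c : F, Full y (x + c • r) := fun x hx c => by
    rcases eq_or_ne x 0 with rfl | hx0
    · rw [zero_add]; exact full_smul hrfull c
    · exact hone x hx hx0 c
  obtain ⟨s₂, hs₂, hdP⟩ := perp_proj hSrad e₂
  set d := e₂ - s₂ with hd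
  have hdS : ∀ x ∈ S, B x d = 0 := fun x hx => hdP x hx
  have hrd : B r d ≠ 0 := by rw [hd, map_sub, B_swap s₂ r, hrS s₂ hs₂, neg_zero, sub_zero]; exact hre₂
  have hdfull : Full y d := by
    rcases eq_or_ne s₂ 0 with h0 | h0
    · rw [hd, h0, sub_zero]; exact he₂
    obtain ⟨x₀, hx₀, hxx⟩ := hnd s₂ hs₂ h0
    obtain ⟨σ, hσ0, hσ1⟩ := exists_avoid hq 0 (B r d / B s₂ x₀)
    have h := hsum he₂ (hSfull _ (S.neg_mem hs₂)) (hSr _ (S.smul_mem σ hx₀) 1) ?_ ?_ ?_ ?_
    · rwa [← sub_eq_add_neg] at h
    all_goals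
      try rw [show e₂ = s₂ + d by rw [hd]; abel]
      simp only [one_smul, map_add, map_neg, map_smul, LinearMap.add_apply, LinearMap.smul_apply,
        smul_eq_mul, B_self, B_swap s₂ r, hrS s₂ hs₂, hdS x₀ hx₀, B_swap s₂ d, hdS s₂ hs₂, B_swap s₂ x₀,
        neg_zero, mul_zero, add_zero, zero_add]
    · intro h
      refine hσ1 ?_
      field_simp
      linear_combination -h
    · exact neg_ne_zero.mpr (mul_ne_zero hσ0 (neg_ne_zero.mpr hxx))
    · ring_nf
      exact hrd
  set S' := S ⊔ Submodule.span F {r, d} with hS'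
  have hmem : ∀ v ∈ S', ∃ x ∈ S, ∃ α β : F, v = x + (α • r + β • d) := by
    intro v hv
    obtain ⟨x, hx, p, hp, rfl⟩ := Submodule.mem_sup.mp hv
    obtain ⟨α, β, rfl⟩ := Submodule.mem_span_pair.mp hp
    exact ⟨x, hx, α, β, rfl⟩
  have hgood : Good S' := by
    refine ⟨fun v hv => ?_, ?_, fun h => hSne (eq_bot_iff.mpr (h ▸ le_sup_left))⟩
    · obtain ⟨x, hx, α, β, rfl⟩ := hmem v hv
      rcases eq_or_ne β 0 with rfl | hβ
      · rw [zero_smul, add_zero]; exact hSr x hx α
      have hp : Full y (α • r + β • d) := by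
        rcases eq_or_ne α 0 with rfl | hα
        · rw [zero_smul, zero_add]; exact full_smul hdfull _
        · exact full_add_of_ne (full_smul hrfull _) (full_smul hdfull _) (by
            simp only [map_smul, LinearMap.smul_apply, smul_eq_mul]
            exact mul_ne_zero hβ (mul_ne_zero hα hrd))
      rcases eq_or_ne x 0 with rfl | hx0
      · rwa [zero_add]
      obtain ⟨x', hx', hxx⟩ := hnd x hx hx0
      obtain ⟨σ, hσ0, hσ1⟩ := exists_avoid hq 0 (β * B r d / B x x')
      refine hsum (hSfull x hx) hp (hSr _ (S.smul_mem σ hx') 1) ?_ ?_ ?_ ?_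
      all_goals
        simp only [one_smul, map_add, map_smul, LinearMap.add_apply, LinearMap.smul_apply, smul_eq_mul,
          B_self, hrS x hx, hdS x hx, hrS x' hx', hdS x' hx', B_swap x r, B_swap x' r, B_swap x x',
          neg_zero, mul_zero, add_zero, zero_add]
      · exact mul_ne_zero hσ0 (neg_ne_zero.mpr hxx)
      · exact mul_ne_zero hβ hrd
      · intro h
        refine hσ1 ?_
        field_simp
        linear_combination -h
    · refine (Submodule.eq_bot_iff _).mpr fun v ⟨hv, hv'⟩ => ?_
      obtain ⟨x, hx, α, β, rfl⟩ := hmem v hv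
      have h1 := hv' r (Submodule.mem_sup_right (Submodule.subset_span (by simp)))
      simp only [map_add, map_smul, B_self, B_swap x r, hrS x hx, neg_zero, smul_eq_mul, mul_zero,
        zero_add, mul_eq_zero, hrd, or_false] at h1
      have h2 := hv' d (Submodule.mem_sup_right (Submodule.subset_span (by simp)))
      have hdr : B d r ≠ 0 := by rw [B_swap r d]; exact neg_ne_zero.mpr hrd
      simp only [map_add, map_smul, B_self, B_swap x d, hdS x hx, neg_zero, smul_eq_mul, mul_zero,
        zero_add, add_zero, mul_eq_zero, hdr, or_false] at h2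
      rw [h1, h2, zero_smul, zero_smul, add_zero, add_zero]
      refine hboth x hx fun s hs => ?_
      have h3 := hv' s (Submodule.mem_sup_left hs)
      rwa [h1, h2, zero_smul, zero_smul, add_zero, add_zero] at h3
  have hlt : nS S < nS S' := by
    refine Finset.card_lt_card ((Finset.ssubset_iff_of_subset fun v hv => ?_).mpr ⟨r, ?_, ?_⟩)
    · exact Finset.mem_filter.mpr ⟨Finset.mem_univ _, Submodule.mem_sup_left (Finset.mem_filter.mp hv).2⟩
    · exact Finset.mem_filter.mpr
        ⟨Finset.mem_univ _, Submodule.mem_sup_right (Submodule.subset_span (by simp))⟩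
    · exact fun h => hr0 (hboth r (Finset.mem_filter.mp h).2 hrP)
  exact absurd (hmax S' hgood) (not_le.mpr hlt)

end Cfsg.Agent.SpMinIndex
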