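import Cfsg.Agent.Lib.SpMinIndex.Regular
import Cfsg.Agent.Lib.SpMinIndex.Span
import Cfsg.Agent.Lib.SpMinIndex.Parabolic

/-!
Moving root group data to the base point, and the existence of moved orbits hit by every character.
-/

set_option autoImplicit false
set_option linter.unusedSectionVars false
set_option maxHeartbeats 400000
set_option synthInstance.maxHeartbeats 100000

namespace Cfsg.Agent.SpMinIndex

open Matrix

variable {F : Type*} [Field F] [Fintype F] {k : ℕ}

local notation "PS" m => (Fin m ⊕ Fin m → F)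
local notation "Sp" m => Matrix.symplecticGroup (Fin m) F
local notation "B" => FormsLib.spB _ F

variable {Ω : Type*} [Fintype Ω] [DecidableEq Ω] [MulAction (Matrix.symplecticGroup (Fin (k + 1)) F) Ω]

theorem tr_smul_move (g : Sp (k + 1)) (v : PS (k + 1)) (x : F) (y : Ω) :
    g • tr v x • y = tr (ap g v) x • g • y := by
  rw [smul_smul, smul_smul, ← tr_conj, inv_mul_cancel_right]

theorem full_move {g : Sp (k + 1)} {v : PS (k + 1)} {y : Ω} :
    Full (g • y) (ap g v) ↔ Full y v := by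
  simp only [Full, ← tr_smul_move]
  exact forall_congr' fun x => smul_left_cancel_iff g

theorem kills_move {g : Sp (k + 1)} {v : PS (k + 1)} {y : Ω} {χ : AddChar F ℂ}
    (h : Kills (actX v) χ y) : Kills (actX (ap g v)) χ (g • y) := fun x hx => h x (by
  refine MulAction.injective g ?_
  show g • tr v x • y = g • y
  rw [tr_smul_move]
  exact hx)

/-- The radical of a base vector in the coordinates of `a^⊥/a`. -/
theorem rE_eq_qq {u : PS (k + 1)} (h : B a0 u = 0) : ∃ (w : PS k) (r : F), rE (a0 : PS (k + 1)) u = qq w r := by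
  obtain ⟨w, s, rfl⟩ := exists_decomp h
  refine ⟨w, 2 * s, ?_⟩
  have e := rE_mul (u := iota w) (u' := s • (a0 : PS (k + 1))) (B_a0_iota w) (by
    rw [map_smul, B_self, smul_zero])
  rw [rE_smul_self, map_smul, LinearMap.smul_apply, B_a0_iota, smul_zero, tr_zero, mul_one] at e
  exact e.symm

theorem mov_of_qq {y : Ω} {w : PS k} {r : F}
    (h : ∀ z : F, qq w r • y ≠ tr (a0 : PS (k + 1)) z • y) : Mov (F := F) (k := k) y :=
  ⟨w, fun z e => h (r + z) (by
    rw [qq, ← (rE_tr_commute (B_a0_iota w) r).eq, mul_smul, e, smul_smul, ← tr_add])⟩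

theorem mov_iff_qq {y : Ω} :
    Mov (F := F) (k := k) y ↔ ∃ w : PS k, ∀ z : F, qq w z • y ≠ y := by
  refine exists_congr fun w => ⟨fun h z e => h (-z) ?_, fun h z e => h (-z) ?_⟩
  · rw [qq, ← (rE_tr_commute (B_a0_iota w) z).eq, mul_smul] at e
    rw [← tr_inv, eq_inv_smul_iff]
    exact e
  · rw [qq, ← (rE_tr_commute (B_a0_iota w) (-z)).eq, mul_smul, e, smul_smul, ← tr_add, neg_add_cancel,
      tr_zero, one_smul]

theorem mov_scale {g : Sp (k + 1)} {s : F} (hs : s ≠ 0) (hg : ap g a0 = s • (a0 : PS (k + 1))) {y : Ω}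
    (h : Mov (F := F) (k := k) y) : Mov (F := F) (k := k) (g • y) := by
  obtain ⟨w, hw⟩ := h
  have hperp : B a0 (s • ap g (iota w)) = 0 := by
    have h1 : B (ap g a0) (ap g (iota w)) = 0 := by rw [B_ap, B_a0_iota]
    rw [hg, map_smul, LinearMap.smul_apply, smul_eq_mul] at h1
    rw [map_smul, (mul_eq_zero.mp h1).resolve_left hs, smul_zero]
  obtain ⟨w', r, hwr⟩ := rE_eq_qq hperp
  have e1 : g * rE a0 (iota w) * g⁻¹ = qq w' r := by
    rw [rE_conj, hg, rE_smul_left, hwr]
    rw [show B a0 (ap g (iota w)) = 0 from ?_]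
    rw [map_smul, smul_eq_mul] at hperp
    exact (mul_eq_zero.mp hperp).resolve_left hs
  refine mov_of_qq (w := w') (r := r) fun z e => hw (s⁻¹ * s⁻¹ * z) ?_
  rw [← e1, mul_smul, mul_smul, inv_smul_smul] at e
  refine MulAction.injective g ?_
  show g • rE (a0 : PS (k + 1)) (iota w) • y = g • tr (a0 : PS (k + 1)) (s⁻¹ * s⁻¹ * z) • y
  rw [e, tr_smul_move, hg, tr_smul]
  congr 2
  field_simp

theorem hits_scale {g : Sp (k + 1)} {s α : F} (hs : s ≠ 0) (hg : ap g a0 = s • (a0 : PS (k + 1))) (hα : α ≠ 0)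
    {y : Ω} (h : Hits (k := k) α y) : Hits (k := k) (α / (s * s)) (g • y) :=
  hits_of_kills (div_ne_zero hα (mul_ne_zero hs hs)) fun x hx => by
    rw [wtF_apply, show α / (s * s) * x = α * (x / (s * s)) by field_simp, ← wtF_apply]
    refine h.2 _ ?_
    refine MulAction.injective g ?_
    show g • tr (a0 : PS (k + 1)) (x / (s * s)) • y = g • y
    rw [tr_smul_move, hg, tr_smul, mul_div_cancel₀ _ (mul_ne_zero hs hs)]
    exact hx

theorem hits_exists {y : Ω} (h : ¬ Full y (a0 : PS (k + 1))) :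
    ∃ α : F, α ≠ 0 ∧ Hits (k := k) α y := by
  obtain ⟨x, hx⟩ := not_forall.mp h
  obtain ⟨χ, hχ, hk⟩ := exists_kills (actX_add (Ω := Ω) (a0 : PS (k + 1))) (z := y) ⟨x, hx⟩
  obtain ⟨α, rfl⟩ := wtF_bijective.2 χ
  have hα : α ≠ 0 := fun e => hχ (by rw [e, wtF_zero])
  exact ⟨α, hα, hits_of_kills hα hk⟩

theorem mov_of_odd (hk : 1 ≤ k) (h2 : (2 : F) ≠ 0) {y : Ω} (h : ¬ Full y (a0 : PS (k + 1))) :
    Mov (F := F) (k := k) y := by
  rw [mov_iff_qq]
  by_contra! hall
  obtain ⟨j, rfl⟩ : ∃ j, k = j + 1 := ⟨k - 1, by omega⟩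
  refine h fun x => ?_
  set u : PS (j + 1) := a0
  set v : PS (j + 1) := (x / 2) • f0
  obtain ⟨z, hz⟩ := hall u
  obtain ⟨z', hz'⟩ := hall v
  have h1 : (qq u z * qq v z') • y = y := by rw [mul_smul, hz', hz]
  have h2' : (qq v z' * qq u z) • y = y := by rw [mul_smul, hz, hz']
  have e : qq v z' * qq u z = qq u z * qq v z' * tr a0 (2 * B u v) := by
    rw [qq_mul, qq_mul, qq, qq, mul_assoc, ← tr_add, add_comm v u]
    congr 2
    rw [B_swap u v]
    ring
  rw [e, mul_smul] at h2'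
  have h3 := MulAction.injective (qq u z * qq v z') (h2'.trans h1.symm)
  rwa [map_smul, B_a0_f0, smul_eq_mul, mul_one, mul_div_cancel₀ _ h2] at h3

theorem hits_move {g : Sp (k + 1)} {v : PS (k + 1)} (hg : ap g v = a0) {α : F} (hα : α ≠ 0) {y : Ω}
    (h : Kills (actX v) (wtF α) y) : Hits (k := k) α (g • y) :=
  hits_of_kills hα (hg ▸ kills_move h)

theorem exists_perp_indep (hk : 1 ≤ k) (a : PS (k + 1)) : ∃ c, B a c = 0 ∧ ∀ s : F, c ≠ s • a := by
  obtain ⟨j, rfl⟩ : ∃ j, k = j + 1 := ⟨k - 1, by omega⟩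
  by_cases ha : a = 0
  · exact ⟨a0, by rw [ha, map_zero, LinearMap.zero_apply], fun s e => a0_ne (by rw [e, ha, smul_zero])⟩
  obtain ⟨g, hg⟩ := exists_map (F := F) a0_ne ha
  refine ⟨ap g (iota a0), by rw [← hg, B_ap, B_a0_iota], fun s e => ?_⟩
  rw [← hg, ← ap_smul] at e
  have := congrFun (ap_injective g e) (Sum.inr 1)
  simp [iota, a0] at this

/-- Every character hits a moved orbit. -/
theorem exists_hits_mov (hk : 1 ≤ k) (hq : 3 ≤ Fintype.card F) (hP : NoPar (k + 1) F Ω)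
    (hT : ∀ y : Ω, ¬ ∀ v : PS (k + 1), Full y v) [Nonempty Ω] (α : F) :
    ∃ y : Ω, Hits (k := k) α y ∧ Mov (F := F) (k := k) y := by
  classical
  suffices h : ∀ α : F, α ≠ 0 → ∃ y : Ω, Hits (k := k) α y ∧ Mov (F := F) (k := k) y by
    rcases eq_or_ne α 0 with rfl | hα
    · obtain ⟨y, hy, hm⟩ := h 1 one_ne_zero
      exact ⟨y, hits_zero hy.1, hm⟩
    · exact h α hα
  intro α hα
  obtain ⟨y₀⟩ := ‹Nonempty Ω›
  by_cases h2 : (2 : F) = 0
  · haveI : CharP F 2 := CharTwo.of_one_ne_zero_of_two_eq_zero one_ne_zero h2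
    have hsq : ∀ x : F, ∃ s, s * s = x := fun x => by
      obtain ⟨c, hc⟩ := FiniteField.isSquare_of_char_two (F := F) (ringChar.eq_iff.mpr inferInstance) x
      exact ⟨c, hc.symm⟩
    have hex : ∃ s : F, s ≠ 0 ∧ s ≠ 1 := exists_avoid hq 0 1
    obtain ⟨j, rfl⟩ : ∃ j, k = j + 1 := ⟨k - 1, by omega⟩
    obtain ⟨a, ha, u, hau, hu⟩ : ∃ a : PS (j + 1 + 1), ¬ Full y₀ a ∧ ∃ u, B a u = 0 ∧
        ∀ z : F, (rE a u * tr a z) • y₀ ≠ y₀ := by
      by_contra! hshort
      refine false_of_short hex hsq (fun a ha => ?_) (fun a c => ?_) (hT y₀) hshort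
      · obtain ⟨g, hg⟩ := exists_map (F := F) a0_ne ha
        exact ⟨ap g (iota f0), ap g (iota a0), by rw [← hg, B_ap, B_a0_iota], by rw [← hg, B_ap, B_a0_iota],
          by rw [B_ap, B_iota, B_a0_f0]⟩
      · have hker : LinearMap.ker ((B a).prod (B c)) ≠ ⊥ := LinearMap.ker_ne_bot_of_finrank_lt (by
          rw [Module.finrank_prod, Module.finrank_self, Module.finrank_fintype_fun_eq_card, Fintype.card_sum,
            Fintype.card_fin]
          omega)
        obtain ⟨e, he, he0⟩ := (Submodule.ne_bot_iff _).mp hker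
        rw [LinearMap.mem_ker] at he
        exact ⟨e, he0, congrArg Prod.fst he, congrArg Prod.snd he⟩
    obtain ⟨g, hg⟩ := exists_map (F := F) (fun e : a = 0 => ha (by rw [e]; exact full_zero)) a0_ne
    have hnf : ¬ Full (g • y₀) (a0 : PS (j + 1 + 1)) := fun hf => ha (by rwa [← hg, full_move] at hf)
    have hmov : Mov (F := F) (k := j + 1) (g • y₀) := by
      obtain ⟨w, r, hwr⟩ := rE_eq_qq (u := ap g u) (by rw [← hg, B_ap, hau])
      refine mov_iff_qq.mpr ⟨w, fun z e => hu (-r + z) (MulAction.injective g ?_)⟩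
      show g • (rE a u * tr a (-r + z)) • y₀ = g • y₀
      have e1 : g * (rE a u * tr a (-r + z)) = qq w z * g := by
        rw [show g * (rE a u * tr a (-r + z)) =
          (g * rE a u * g⁻¹) * (g * tr a (-r + z) * g⁻¹) * g by group, rE_conj, tr_conj, hg, hwr, qq, qq,
          mul_assoc (rE _ _) (tr _ r), ← tr_add, add_neg_cancel_left]
      rw [smul_smul, e1, mul_smul, e]
    obtain ⟨β, hβ, hhit⟩ := hits_exists hnf
    obtain ⟨s, hs⟩ := hsq (β / α)
    have hs0 : s ≠ 0 := fun e => div_ne_zero hβ hα (by rw [← hs, e, zero_mul])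
    obtain ⟨g', hg'⟩ := exists_map (F := F) a0_ne (smul_ne_zero hs0 (a0_ne (k := j + 1)))
    refine ⟨g' • g • y₀, ?_, mov_scale hs0 hg' hmov⟩
    have h1 := hits_scale hs0 hg' hβ hhit
    rwa [hs, div_div_cancel₀ hβ] at h1
  · obtain ⟨v, hv, hk'⟩ : ∃ v : PS (k + 1), ¬ Full y₀ v ∧ Kills (actX v) (wtF α) y₀ := by
      by_contra! h
      have hodd : Fintype.card F % 2 = 1 := by
        rcases Nat.mod_two_eq_zero_or_one (Fintype.card F) with e | e
        · have h' : ringChar F = 2 := (FiniteField.even_card_iff_char_two (F := F)).mpr e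
          haveI : CharP F 2 := ringChar.eq_iff.mp h'
          exact absurd CharTwo.two_eq_zero h2
        · exact e
      exact false_of_avoids y₀ hodd hP (hT y₀) (exists_perp_indep hk) hα h
    obtain ⟨g, hg⟩ := exists_map (F := F) (fun e : v = 0 => hv (by rw [e]; exact full_zero)) a0_ne
    have := hits_move hg hα hk'
    exact ⟨_, this, mov_of_odd hk h2 this.1⟩

end Cfsg.Agent.SpMinIndex
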